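import Groth.Agent.H73.RegSeq
import Groth.Agent.Lib.ProjSpace.BaseChange
import Groth.Agent.Lib.ProjKoszul.Regularity
import Groth.Agent.S4406

/-!
# `P^n_T` over an affine open of the base

* `Chart.emb`: the open immersion `P^n_R ⟶ P^n_T` over an affine open `V` of `T`, `R = Γ(T, V)`.
* `Chart.twistIso`: `O(d)` restricts to `O(d)`.
-/

set_option autoImplicit false

noncomputable section

universe u

open CategoryTheory CategoryTheory.Limits AlgebraicGeometry

namespace Groth.Agent.Lib.H70.KRRReg.Chart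

open Groth.Agent.Lib Groth.Agent.Lib.ProjSpace.BaseChange TensorMod.Basic

variable {n : ℕ}

/-- `O(d)` pulls back to `O(d)` along `P^n_R ⟶ P^n_ℤ`. -/
theorem nonempty_pullback_projMap (R : Type u) [CommRing R] (d : ℤ) :
    Nonempty ((Scheme.Modules.pullback (projMap n (ulz R))).obj
      (Twist.twistProjSpace n (ULift.{u} ℤ) d) ≅ ProjCoh.Coherent.tw n R d) := by
  let φ : ULift.{u} ℤ →+* R := ulz R
  algebraize [φ]
  let := MvPolynomial.algebraMvPolynomial (σ := Fin (n + 1)) (R := ULift.{u} ℤ) (S := R)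
  exact Groth.Agent.S4406.result (CohB1.polyGrading n (ULift.{u} ℤ)) (CohB1.polyGrading n R)
    (mapHom n φ) (fun _ => rfl) (irrelevant_le_map n φ) d

variable {T : Scheme.{u}} {V : T.Opens} (hV : IsAffineOpen V)

/-- `P^n_R ⟶ P^n_T` for the affine open `V`. -/
def emb : CohB1.ProjSpace n Γ(T, V) ⟶ KRR.PY n T :=
  (overSpecIso n Γ(T, V)).inv ≫ overMap n hV.fromSpec

instance isOpenImmersion_overMap : IsOpenImmersion (overMap n hV.fromSpec) :=
  MorphismProperty.of_isPullback (P := @IsOpenImmersion.{u}) (isPullback_overMap n hV.fromSpec).flip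
    inferInstance

instance isOpenImmersion_emb : IsOpenImmersion (emb (n := n) hV) :=
  inferInstanceAs (IsOpenImmersion ((overSpecIso n Γ(T, V)).inv ≫ overMap n hV.fromSpec))

@[reassoc]
theorem emb_pr : emb (n := n) hV ≫ KRR.pr n T = CohB1.ProjSpace.toSpec n Γ(T, V) ≫ hV.fromSpec :=
  (Category.assoc _ _ _).trans ((congrArg (_ ≫ ·) (overMap_toBase n hV.fromSpec)).trans
    (overSpecIso_inv_toBase_assoc n Γ(T, V) hV.fromSpec))

theorem opensRange_emb : (emb (n := n) hV).opensRange = KRR.pr n T ⁻¹ᵁ V := by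
  unfold emb
  rw [Scheme.Hom.opensRange_comp_of_isIso]
  let h := isPullback_overMap n hV.fromSpec
  refine Eq.trans ?_ (congrArg (KRR.pr n T ⁻¹ᵁ ·) hV.opensRange_fromSpec)
  rw [← Scheme.Hom.opensRange_pullbackFst]
  refine Eq.trans ?_ (Scheme.Hom.opensRange_comp_of_isIso h.isoPullback.hom _)
  congr 1
  exact h.isoPullback_hom_fst.symm

theorem image_top : emb (n := n) hV ''ᵁ ⊤ = KRR.pr n T ⁻¹ᵁ V :=
  (Scheme.Hom.image_top_eq_opensRange _).trans (opensRange_emb hV)

theorem emb_fst : emb (n := n) hV ≫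
    pullback.fst (CohB1.ProjSpace.toSpec n (ULift.{u} ℤ)) (specULiftZIsTerminal.from T) =
      projMap n (ulz Γ(T, V)) := by
  unfold emb
  rw [Category.assoc, overMap_fst, Iso.inv_comp_eq]
  exact (overSpecIso_hom_projMap n Γ(T, V)).symm

/-- Restriction to the chart. -/
abbrev rest (F : (KRR.PY n T).Modules) : (CohB1.ProjSpace n Γ(T, V)).Modules := F.restrict (emb hV)

/-- `O(d)` restricts to `O(d)`. -/
def twistIso (d : ℤ) :
    rest hV (Twist.twistOver n T d) ≅ ProjCoh.Coherent.tw n Γ(T, V) d :=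
  (Scheme.Modules.restrictFunctorIsoPullback _).app _ ≪≫
    (Scheme.Modules.pullbackComp _ _).app _ ≪≫
    (Scheme.Modules.pullbackCongr (emb_fst hV)).app _ ≪≫ (nonempty_pullback_projMap _ d).some

/-- Twists restrict to twists. -/
def tbIso (d : ℤ) (F : (KRR.PY n T).Modules) :
    rest hV ((H73.RegSeq.tb d).obj F) ≅
      CohB1.tensorMod (rest hV F) (ProjCoh.Coherent.tw n Γ(T, V) d) :=
  TensorMod.Pullback.restrictTensorIso _ F _ ≪≫ tensorIso (Iso.refl _) (twistIso hV d)

end Groth.Agent.Lib.H70.KRRReg.Chart
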