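import Groth.Agent.Lib.H70.KRRReg.Chart
import Groth.Agent.Lib.ZarCoh.RpushVanish
import Groth.Agent.Lib.ZarCoh.Morph
import Groth.Agent.Lib.CohDelta.SerreRel
import Groth.Agent.Lib.TensorMod.TensorQCoh
import Groth.Agent.Lib.ProjKoszul.Regularity
import Groth.Agent.Lib.QCoh.Pullback

/-!
# Relative vanishing and regularity are local on the base
-/

set_option autoImplicit false

noncomputable section

universe u

open CategoryTheory CategoryTheory.Limits AlgebraicGeometry

namespace Groth.Agent.Lib.H70.KRRReg.Local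

open Groth.Agent.Lib Groth.Agent.Lib.H70.KRRReg.Chart TensorMod.Basic

variable {n : ℕ} {T : Scheme.{u}}

/-- Cohomology on a chart is cohomology over the affine open. -/
theorem subsingleton_rest_iff {V : T.Opens} (hV : IsAffineOpen V) (M : (KRR.PY n T).Modules) (q : ℕ) :
    Subsingleton (Coh.HH (CohB1.ProjSpace n Γ(T, V)) (rest hV M) q) ↔
      Subsingleton (CohTop.HU (Coh.toAb M) q (KRR.pr n T ⁻¹ᵁ V)) := by
  rw [← image_top (n := n) hV]
  exact (ZarCoh.Morph.openEquiv (emb hV) M q).toEquiv.subsingleton_congr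

/-- Higher direct images of quasi-coherent modules vanish iff cohomology on the charts does. -/
theorem isZero_Rp_iff (M : (KRR.PY n T).Modules) (hM : Coh.IsQCoh M) (i : ℕ) (hi : 1 ≤ i) :
    IsZero (H73.RegSeq.Rp i M) ↔ ∀ (V : T.Opens) (hV : IsAffineOpen V),
      Subsingleton (Coh.HH (CohB1.ProjSpace n Γ(T, V)) (rest hV M) i) := by
  obtain ⟨p, rfl⟩ : ∃ p, i = p + 1 := ⟨i - 1, by omega⟩
  refine ⟨fun h V hV => (subsingleton_rest_iff hV M _).2 ?_, fun h => ?_⟩
  · exact CohDelta.SerreRel.hn_eq_zero (KRR.pr n T) M hM p h hV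
  · refine ZarCoh.RpushVanish.isZero_RpushAb (KRR.pr n T).base T.isBasis_affineOpens p ?_
    intro W hW
    exact (subsingleton_rest_iff hW M _).1 (h W hW)

theorem isQCoh_tb (d : ℤ) {F : (KRR.PY n T).Modules} (hF : Coh.IsQCoh F) :
    Coh.IsQCoh ((H73.RegSeq.tb d).obj F) := by
  have := hF
  have : (Twist.twistProjSpace n (ULift.{u} ℤ) d).IsQuasicoherent :=
    (Ample.GG.isCoh_of_isInvertible (ProjCoh.Coherent.isInvertible_tw d)).1
  have : Coh.IsQCoh (Twist.twistOver n T d) := QCoh.Pullback.isQCoh_pullback _ _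
  exact TensorMod.TensorQCoh.isQCoh_tensorMod F _

/-- Relative vanishing of twists, on the charts. -/
theorem isZero_Rp_tb_iff (F : (KRR.PY n T).Modules) (hF : Coh.IsQCoh F) (d : ℤ) (i : ℕ) (hi : 1 ≤ i) :
    IsZero (H73.RegSeq.Rp i ((H73.RegSeq.tb d).obj F)) ↔ ∀ (V : T.Opens) (hV : IsAffineOpen V),
      Subsingleton (Coh.HH (CohB1.ProjSpace n Γ(T, V))
        (CohB1.tensorMod (rest hV F) (ProjCoh.Coherent.tw n Γ(T, V) d)) i) := by
  rw [isZero_Rp_iff _ (isQCoh_tb d hF) i hi]
  refine forall₂_congr fun V hV => ?_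
  constructor <;> intro h
  · exact ProjKoszul.Chase.subsingleton_of_iso Γ(T, V) (tbIso hV d F) h
  · exact ProjKoszul.Chase.subsingleton_of_iso Γ(T, V) (tbIso hV d F).symm h

/-- Regularity relative to the base is regularity on the charts. -/
theorem isRegSheaf_iff (F : (KRR.PY n T).Modules) (hF : Coh.IsQCoh F) :
    KRR.IsRegSheaf n T F ↔ ∀ (V : T.Opens) (hV : IsAffineOpen V),
      ProjKoszul.Regularity.Reg (rest hV F) 0 := by
  rw [H73.RegSeq.reg_iff]
  constructor
  · intro h V hV i hi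
    rw [zero_sub]
    exact (isZero_Rp_tb_iff F hF _ i hi).1 (h i hi) V hV
  · intro h i hi
    refine (isZero_Rp_tb_iff F hF _ i hi).2 fun V hV => ?_
    have := h V hV i hi
    rwa [zero_sub] at this

/-- Twists of regular modules are regular. -/
theorem isZero_Rp_of_le {F : (KRR.PY n T).Modules} (hF : Coh.IsQCoh F) (h : KRR.IsRegSheaf n T F)
    (i : ℕ) (hi : 1 ≤ i) (d : ℤ) (hd : -(i : ℤ) ≤ d) :
    IsZero (H73.RegSeq.Rp i ((H73.RegSeq.tb d).obj F)) :=
  (isZero_Rp_tb_iff F hF d i hi).2 fun V hV =>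
    ProjKoszul.Regularity.subsingleton_of_le ((isRegSheaf_iff F hF).1 h V hV) hi (by omega)

end Groth.Agent.Lib.H70.KRRReg.Local
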