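import Mathlib.Algebra.Homology.QuasiIso
import Mathlib.Algebra.Homology.SingleHomology
import Mathlib.Algebra.Homology.ShortComplex.ShortExact
import Mathlib.Algebra.Homology.ShortComplex.HomologicalComplex

/-!
# Splicing short exact sequences into a resolution
-/

set_option autoImplicit false
set_option linter.style.haveILetI false

universe v u

open CategoryTheory CategoryTheory.Limits

namespace Groth.Agent.Lib.H70.KRRReg.Splice

variable {A : Type u} [Category.{v} A] [Abelian A] (S : ℕ → ShortComplex A)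
  (hS : ∀ i, (S i).ShortExact) (e : ∀ i, (S (i + 1)).X₃ ≅ (S i).X₁)

/-- The differential. -/
noncomputable def d (i : ℕ) : (S (i + 1)).X₂ ⟶ (S i).X₂ := (S (i + 1)).g ≫ (e i).hom ≫ (S i).f

theorem d_d (i : ℕ) : d S e (i + 1) ≫ d S e i = 0 := by
  simp [d, Category.assoc, reassoc_of% (S (i + 1)).zero]

/-- The spliced complex. -/
noncomputable abbrev cx : ChainComplex A ℕ := ChainComplex.of (fun i => (S i).X₂) (d S e) (d_d S e)

theorem cx_d (i : ℕ) : (cx S e).d (i + 1) i = d S e i := ChainComplex.of_d (fun i => (S i).X₂) (d S e) i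

include hS in
theorem exact_succ (i : ℕ) : (ShortComplex.mk (d S e (i + 1)) (d S e i) (d_d S e i)).Exact := by
  haveI := (hS (i + 2)).epi_g
  haveI := (hS i).mono_f
  let U := ShortComplex.mk (d S e (i + 1)) (S (i + 1)).g
    (by simp [d, Category.assoc, (S (i + 1)).zero])
  let φ : U ⟶ S (i + 1) :=
    { τ₁ := (S (i + 2)).g ≫ (e (i + 1)).hom
      τ₂ := 𝟙 _
      τ₃ := 𝟙 _
      comm₁₂ := by simp [U, d]
      comm₂₃ := by simp [U] }
  let ψ : U ⟶ ShortComplex.mk (d S e (i + 1)) (d S e i) (d_d S e i) :=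
    { τ₁ := 𝟙 _
      τ₂ := 𝟙 _
      τ₃ := (e i).hom ≫ (S i).f
      comm₁₂ := by simp [U]
      comm₂₃ := by simp [U, d] }
  haveI : Epi φ.τ₁ := by dsimp [φ]; infer_instance
  haveI : IsIso φ.τ₂ := by dsimp [φ]; infer_instance
  haveI : Mono φ.τ₃ := by dsimp [φ]; infer_instance
  haveI : Epi ψ.τ₁ := by dsimp [ψ]; infer_instance
  haveI : IsIso ψ.τ₂ := by dsimp [ψ]; infer_instance
  haveI : Mono ψ.τ₃ := by dsimp [ψ]; infer_instance
  exact (ShortComplex.exact_iff_of_epi_of_isIso_of_mono ψ).1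
    ((ShortComplex.exact_iff_of_epi_of_isIso_of_mono φ).2 (hS (i + 1)).exact)

include hS in
theorem exact_zero (h : d S e 0 ≫ (S 0).g = 0) : (ShortComplex.mk (d S e 0) (S 0).g h).Exact := by
  haveI := (hS 1).epi_g
  let φ : ShortComplex.mk (d S e 0) (S 0).g h ⟶ S 0 :=
    { τ₁ := (S 1).g ≫ (e 0).hom
      τ₂ := 𝟙 _
      τ₃ := 𝟙 _
      comm₁₂ := by simp [d]
      comm₂₃ := by simp }
  haveI : Epi φ.τ₁ := by dsimp [φ]; infer_instance
  haveI : IsIso φ.τ₂ := by dsimp [φ]; infer_instance
  haveI : Mono φ.τ₃ := by dsimp [φ]; infer_instance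
  exact (ShortComplex.exact_iff_of_epi_of_isIso_of_mono φ).2 (hS 0).exact

include hS in
/-- The spliced complex resolves the last cokernel. -/
theorem exists_quasiIso :
    ∃ (π : cx S e ⟶ (ChainComplex.single₀ A).obj (S 0).X₃), QuasiIso π := by
  have h0 : d S e 0 ≫ (S 0).g = 0 := by simp [d, Category.assoc, (S 0).zero]
  refine ⟨(ChainComplex.toSingle₀Equiv _ _).symm ⟨(S 0).g, by
    rw [cx_d]; exact h0⟩, ⟨fun m => ?_⟩⟩
  cases m with
  | zero =>
    rw [ChainComplex.quasiIsoAt₀_iff, ShortComplex.quasiIso_iff_of_zeros']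
    · dsimp
      haveI := (hS 0).epi_g
      refine (ShortComplex.exact_and_epi_g_iff_of_iso ?_).2 ⟨exact_zero S hS e h0, inferInstanceAs (Epi (S 0).g)⟩
      exact ShortComplex.isoMk (Iso.refl _) (Iso.refl _) (Iso.refl _)
        ((Category.id_comp _).trans ((cx_d S e 0).symm.trans (Category.comp_id _).symm))
        ((Category.id_comp _).trans ((ChainComplex.toSingle₀Equiv_symm_apply_f_zero (C := cx S e)
          (S 0).g _).symm.trans (Category.comp_id _).symm))
    · exact (cx S e).shape 0 0 (by simp)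
    all_goals rfl
  | succ m =>
    rw [quasiIsoAt_iff_exactAt' (hL := ChainComplex.exactAt_succ_single_obj _ _),
      HomologicalComplex.exactAt_iff' _ (m + 2) (m + 1) m (by simp) (by simp)]
    refine (ShortComplex.exact_iff_of_iso ?_).2 (exact_succ S hS e m)
    exact ShortComplex.isoMk (Iso.refl _) (Iso.refl _) (Iso.refl _)
      ((Category.id_comp _).trans ((cx_d S e (m + 1)).symm.trans (Category.comp_id _).symm))
      ((Category.id_comp _).trans ((cx_d S e m).symm.trans (Category.comp_id _).symm))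

end Groth.Agent.Lib.H70.KRRReg.Splice
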