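import Groth.Agent.Lib.H70.KRRReg.Kernel
import Groth.Agent.Lib.H70.KRRReg.Splice
import Groth.Agent.Lib.Modules.AffineHom

/-!
# The resolution of a regular module by twisted inverse images
-/

set_option autoImplicit false
set_option linter.style.haveILetI false

noncomputable section

universe u

open CategoryTheory CategoryTheory.Limits AlgebraicGeometry TopologicalSpace Opposite

namespace Groth.Agent.Lib.H70.KRRReg.Resolution

open Groth.Agent.Lib H73.RegSeq

variable {n : ℕ} {T : Scheme.{u}}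

/-- The successive twisted kernels. -/
def iter (F : (KRR.PY n T).Modules) : ℕ → (KRR.PY n T).Modules
  | 0 => F
  | i + 1 => KRR.twF n T 1 (Kernel.seq (iter F i)).X₁

variable {F : (KRR.PY n T).Modules} (hF : Coh.IsQCoh F) (h : KRR.IsRegSheaf n T F)

include hF h in
theorem good : ∀ i, Coh.IsQCoh (iter F i) ∧ KRR.IsRegSheaf n T (iter F i)
  | 0 => ⟨hF, h⟩
  | i + 1 => ⟨(SheafOfModules.isQuasicoherent (R := (KRR.PY n T).ringCatSheaf)).prop_of_iso
      (twFIso 1 _).symm (Local.isQCoh_tb 1 (Kernel.isQCoh_kernel (good i).1)),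
      Kernel.isRegSheaf_kernel (good i).1 (good i).2⟩

include hF in
/-- The direct image of the kernel vanishes. -/
theorem isZero_push_kernel :
    IsZero ((Scheme.Modules.pushforward (KRR.pr n T)).obj (Kernel.seq F).X₁) := by
  rw [IsZero.iff_id_eq_zero]
  refine Modules.AffineHom.hom_ext_affine fun V s => ?_
  refine (AddCommGrpCat.mono_iff_injective
    (((Scheme.Modules.pushforward (KRR.pr n T)).map (Kernel.seq F).f).app V.1)).1 ?_ ?_
  · haveI : Mono (Kernel.seq F).f := inferInstanceAs (Mono (kernel.ι _))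
    exact (AddCommGrpCat.mono_iff_injective _).2 (QCoh.Closure.sections_injective_of_mono _ _)
  · refine (Kernel.mono_push_counit hF V.2 _ ?_).trans (map_zero _).symm
    exact congrArg (fun φ => Scheme.Modules.Hom.app φ (KRR.pr n T ⁻¹ᵁ V.1) s) (Kernel.seq F).zero

theorem isZero_Rp_zero {G : (KRR.PY n T).Modules}
    (hG : IsZero ((Scheme.Modules.pushforward (KRR.pr n T)).obj G)) : IsZero (Rp 0 G) := by
  refine IsZero.of_iso ?_ ((Coh.pushAb (KRR.pr n T)).rightDerivedZeroIsoSelf.app (Coh.toAb G))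
  exact (H34.HOne.ab T).map_isZero hG

include hF h in
/-- `R^j p_* F_i(-j-1) = 0` for `j < i ≤ n + 1`. -/
theorem vanish : ∀ i, i ≤ n + 1 → ∀ j, j < i →
    IsZero (Rp j ((tb (-((j : ℤ) + 1))).obj (iter F i)))
  | 0, _, j, hj => absurd hj (Nat.not_lt_zero j)
  | i + 1, hi, j, hj => by
    obtain ⟨hq, hr⟩ := good hF h i
    let K := (Kernel.seq (iter F i)).X₁
    refine isZero_congr j (((tb (-((j : ℤ) + 1))).mapIso (twFIso 1 K) ≪≫
      tbTb 1 (-((j : ℤ) + 1)) (-(j : ℤ)) (by ring) K).symm) ?_
    cases j with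
    | zero =>
      obtain ⟨e⟩ := Kernel.tbZero (n := n) (T := T) K
      exact isZero_congr 0 (e.symm ≪≫ eqToIso (by norm_num)) (isZero_Rp_zero (isZero_push_kernel hq))
    | succ j =>
      refine left (Kernel.seq (iter F i)) (Kernel.shortExact_seq hq hr) _ j ?_
        (Kernel.mid_vanish hq _ _ (by omega) (by omega))
      exact isZero_congr j (eqToIso (by push_cast; ring_nf; rfl)) (vanish i (by omega) j (by omega))

include hF h in
theorem isZero_kernel_top : IsZero (Kernel.seq (iter F n)).X₁ := by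
  obtain ⟨hq, hr⟩ := good hF h n
  let K := (Kernel.seq (iter F n)).X₁
  have hK : KRR.IsRegSheaf n T K := by
    refine (reg_iff K).2 fun j hj => ?_
    rcases Nat.lt_or_ge n j with hnj | hnj
    · exact Kernel.isZero_Rp_of_lt (Kernel.isQCoh_kernel hq) _ j hnj
    · refine isZero_congr j ?_ (vanish hF h (n + 1) le_rfl j (by omega))
      exact (tb (-((j : ℤ) + 1))).mapIso (twFIso 1 K) ≪≫
        tbTb 1 (-((j : ℤ) + 1)) (-(j : ℤ)) (by ring) K
  haveI := Counit.epi_counit (Kernel.isQCoh_kernel hq) hK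
  refine IsZero.of_epi ((Scheme.Modules.pullbackPushforwardAdjunction (KRR.pr n T)).counit.app K) ?_
  haveI := (Scheme.Modules.pullbackPushforwardAdjunction (KRR.pr n T)).isLeftAdjoint
  exact (Scheme.Modules.pullback (KRR.pr n T)).map_isZero (isZero_push_kernel hq)

include hF h in
theorem isZero_iter : ∀ i, n < i → IsZero (iter F i)
  | 0, hi => absurd hi (Nat.not_lt_zero n)
  | i + 1, hi => by
    have hk : IsZero (Kernel.seq (iter F i)).X₁ := by
      rcases Nat.lt_or_ge n i with hni | hni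
      · exact kernel_zero_of_isZero (isZero_iter i hni)
      · obtain rfl : i = n := by omega
        exact isZero_kernel_top hF h
    exact ((tb 1).map_isZero hk).of_iso (twFIso 1 _)
where
  kernel_zero_of_isZero {G : (KRR.PY n T).Modules} (hG : IsZero G) : IsZero (Kernel.seq G).X₁ := by
    haveI := (Scheme.Modules.pullbackPushforwardAdjunction (KRR.pr n T)).isRightAdjoint
    haveI := (Scheme.Modules.pullbackPushforwardAdjunction (KRR.pr n T)).isLeftAdjoint
    exact IsZero.of_mono (Kernel.seq G).f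
      ((Scheme.Modules.pullback (KRR.pr n T)).map_isZero
        ((Scheme.Modules.pushforward (KRR.pr n T)).map_isZero hG))

include hF h in
/-- The resolution. -/
theorem exists_resolution :
    ∃ (Tm : ℕ → T.Modules) (L : ChainComplex (KRR.PY n T).Modules ℕ)
      (π : L ⟶ (ChainComplex.single₀ (KRR.PY n T).Modules).obj F),
      (∀ i, Coh.IsQCoh (Tm i)) ∧
      (∀ i, i ≤ n → Nonempty (L.X i ≅
        KRR.twF n T (-(i : ℤ)) ((Scheme.Modules.pullback (KRR.pr n T)).obj (Tm i)))) ∧
      (∀ i, n < i → IsZero (L.X i)) ∧ QuasiIso π := by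
  haveI := (Scheme.Modules.pullbackPushforwardAdjunction (KRR.pr n T)).isRightAdjoint
  haveI := (Scheme.Modules.pullbackPushforwardAdjunction (KRR.pr n T)).isLeftAdjoint
  let S : ℕ → ShortComplex (KRR.PY n T).Modules := fun i =>
    (Kernel.seq (iter F i)).map (tb (-(i : ℤ)))
  have hS : ∀ i, (S i).ShortExact := fun i =>
    (Kernel.shortExact_seq (good hF h i).1 (good hF h i).2).map_of_exact (tb (-(i : ℤ)))
  let e : ∀ i, (S (i + 1)).X₃ ≅ (S i).X₁ := fun i =>
    (tb (-((i + 1 : ℕ) : ℤ))).mapIso (twFIso 1 _) ≪≫ tbTb 1 _ _ (by push_cast; ring) _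
  obtain ⟨π, hπ⟩ := Splice.exists_quasiIso S hS e
  let e0 : (S 0).X₃ ≅ F := (Kernel.tbZero (n := n) (T := T) F).some
  refine ⟨fun i => (Scheme.Modules.pushforward (KRR.pr n T)).obj (iter F i), Splice.cx S e,
    π ≫ (ChainComplex.single₀ _).map e0.hom, fun i => Kernel.isQCoh_push (good hF h i).1,
    fun i _ => ⟨(twFIso _ _).symm⟩, fun i hi => ?_, ?_⟩
  · exact (tb (-(i : ℤ))).map_isZero ((Scheme.Modules.pullback (KRR.pr n T)).map_isZero
      ((Scheme.Modules.pushforward (KRR.pr n T)).map_isZero (isZero_iter hF h i hi)))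
  · haveI := hπ
    infer_instance

end Groth.Agent.Lib.H70.KRRReg.Resolution
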