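import Mathlib.RingTheory.Flat.Basic
import Mathlib.LinearAlgebra.Finsupp.LinearCombination
import Mathlib.Algebra.Category.ModuleCat.Basic

/-!
# A flat complex that stays exact in high degrees after tensoring stays exact
-/

set_option autoImplicit false

universe u

open TensorProduct

namespace Groth.Agent.Lib.H70.KRRReg.Alg

variable {R : Type u} [CommRing R] {C : ℕ → Type u} [∀ q, AddCommGroup (C q)] [∀ q, Module R (C q)]
  (d : ∀ q, C q →ₗ[R] C (q + 1))

theorem d_d (hC : ∀ q, Function.Exact (d q) (d (q + 1))) (N : Type u) [AddCommGroup N] [Module R N]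
    (j : ℕ) (x : C j ⊗[R] N) : (d (j + 1)).rTensor N ((d j).rTensor N x) = 0 :=
  (LinearMap.rTensor_comp_apply N (d (j + 1)) (d j) x).symm.trans
    (by rw [(hC j).linearMap_comp_eq_zero, LinearMap.rTensor_zero, LinearMap.zero_apply])

theorem comm {A B : Type u} [AddCommGroup A] [Module R A] [AddCommGroup B] [Module R B]
    (f : A →ₗ[R] B) (j : ℕ) (x : C j ⊗[R] A) :
    (d j).rTensor B (f.lTensor (C j) x) = f.lTensor (C (j + 1)) ((d j).rTensor A x) :=
  (LinearMap.congr_fun (LinearMap.rTensor_comp_lTensor (f := d j) (g := f)) x).trans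
    (LinearMap.congr_fun (LinearMap.lTensor_comp_rTensor (f := d j) (g := f)) x).symm

/-- The inductive step. -/
theorem step [∀ q, Module.Flat R (C q)] (hC : ∀ q, Function.Exact (d q) (d (q + 1)))
    {K F M : Type u} [AddCommGroup K] [Module R K] [AddCommGroup F] [Module R F] [AddCommGroup M]
    [Module R M] (ι : K →ₗ[R] F) (π : F →ₗ[R] M) (hι : Function.Injective ι)
    (hιπ : Function.Exact ι π) (hπ : Function.Surjective π) (q : ℕ)
    (hF : Function.Exact ((d q).rTensor F) ((d (q + 1)).rTensor F))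
    (hK : Function.Exact ((d (q + 1)).rTensor K) ((d (q + 1 + 1)).rTensor K)) :
    Function.Exact ((d q).rTensor M) ((d (q + 1)).rTensor M) := by
  intro z
  refine ⟨fun hz => ?_, fun ⟨y, hy⟩ => hy ▸ d_d d hC M q y⟩
  obtain ⟨z', rfl⟩ := LinearMap.lTensor_surjective (C (q + 1)) hπ z
  rw [comm] at hz
  obtain ⟨w, hw⟩ := (lTensor_exact (C (q + 1 + 1)) hιπ hπ _).1 hz
  have hdw : (d (q + 1 + 1)).rTensor K w = 0 := by
    refine Module.Flat.lTensor_preserves_injective_linearMap ι hι ?_
    rw [← comm, hw, map_zero, d_d d hC]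
  obtain ⟨w', rfl⟩ := (hK w).1 hdw
  obtain ⟨y, hy⟩ := (hF (z' - ι.lTensor (C (q + 1)) w')).1 (by rw [map_sub, comm, hw, sub_self])
  refine ⟨π.lTensor (C q) y, ?_⟩
  rw [comm, hy, map_sub, ← LinearMap.lTensor_comp_apply, hιπ.linearMap_comp_eq_zero,
    LinearMap.lTensor_zero, LinearMap.zero_apply, sub_zero]

/-- If a complex of flat modules is exact in positive degrees and stays exact in high degrees after
any tensor product, it stays exact in all positive degrees. -/
theorem exact_rTensor [∀ q, Module.Flat R (C q)] (n : ℕ)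
    (hC : ∀ q, Function.Exact (d q) (d (q + 1)))
    (hhigh : ∀ (M : ModuleCat.{u} R) (q : ℕ), n ≤ q →
      Function.Exact ((d q).rTensor M) ((d (q + 1)).rTensor M))
    (M : ModuleCat.{u} R) (q : ℕ) : Function.Exact ((d q).rTensor M) ((d (q + 1)).rTensor M) := by
  suffices key : ∀ (k : ℕ) (M : ModuleCat.{u} R) (q : ℕ), n ≤ q + k →
      Function.Exact ((d q).rTensor M) ((d (q + 1)).rTensor M) from key n M q (Nat.le_add_left n q)
  intro k
  induction k with
  | zero => exact fun M q h => hhigh M q h
  | succ k ih =>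
    intro M q hq
    let π : (M →₀ R) →ₗ[R] M := Finsupp.linearCombination R id
    exact step d hC (LinearMap.ker π).subtype π Subtype.val_injective
      (LinearMap.exact_subtype_ker_map π) (fun m => ⟨Finsupp.single m 1, by simp [π]⟩) q
      (Module.Flat.rTensor_exact (M →₀ R) (hC q))
      (ih (ModuleCat.of R (LinearMap.ker π)) (q + 1) (by omega))

end Groth.Agent.Lib.H70.KRRReg.Alg
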