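import Groth.Agent.Lib.H70.KRRReg.Local
import Groth.Agent.Lib.ProjKoszul.Surj
import Groth.Agent.Lib.H70.FTQuot
import Groth.Agent.Lib.Modules.AffineHom

/-!
# A regular quasi-coherent module is generated by its sections over the base

* `Counit.hom_eq_zero`: on `P^n_R`, a morphism out of a regular quasi-coherent module killing all
  global sections is zero.
* `Counit.epi_counit`: `p^* p_* F ⟶ F` is an epimorphism.
-/

set_option autoImplicit false

noncomputable section

universe u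

open CategoryTheory CategoryTheory.Limits AlgebraicGeometry TopologicalSpace Opposite

namespace Groth.Agent.Lib.H70.KRRReg.Counit

open Groth.Agent.Lib TensorMod.Basic Groth.Agent.Lib.Modules.TensorSec
open Groth.Agent.Lib.ProjCoh.Coherent (tw twZero twTensor)

section Chart

variable {n : ℕ} {R : Type u} [CommRing R]

theorem isEquivalence_tensor_tw (k : ℤ) :
    (tensorBy (tw n R k)).IsEquivalence :=
  (CategoryTheory.Equivalence.mk (tensorBy (tw n R k)) (tensorBy (tw n R (-k)))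
    (ProjCoh.Coherent.cancelNat (ProjCoh.Coherent.twCancel k (-k) (add_neg_cancel k))).symm
    (ProjCoh.Coherent.cancelNat
      (ProjCoh.Coherent.twCancel (-k) k (neg_add_cancel k)))).isEquivalence_functor

/-- A morphism killing global sections of a regular module kills those of its twists. -/
theorem twist_app_top_eq_zero {F Q : (CohB1.ProjSpace n R).Modules} (h : ProjKoszul.Regularity.Reg F 0)
    (π : F ⟶ Q) (h0 : ∀ t, π.app ⊤ t = 0) (k : ℕ) (z : Γ(CohB1.tensorMod F (tw n R (k : ℤ)), ⊤)) :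
    (tmap π (𝟙 (tw n R (k : ℤ)))).app ⊤ z = 0 := by
  let u : CohB1.tensorMod F (tw n R 0) ≅ F := tensorIso (Iso.refl F) twZero ≪≫ rightUnit F
  let e := tensorIso u (Iso.refl (tw n R (k : ℤ)))
  obtain ⟨w, rfl⟩ : ∃ w, e.hom.app ⊤ w = z :=
    ⟨e.inv.app ⊤ z, congrArg (fun φ => Scheme.Modules.Hom.app φ ⊤ z) e.inv_hom_id⟩
  refine AddSubgroup.closure_induction
    (p := fun w _ => (tmap π (𝟙 (tw n R (k : ℤ)))).app ⊤ (e.hom.app ⊤ w) = 0)
    ?_ ?_ ?_ ?_ (ProjKoszul.Surj.mem_prods h k w)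
  · rintro _ ⟨⟨a, b⟩, rfl⟩
    change (tmap π (𝟙 _)).app ⊤ ((tmap u.hom (𝟙 _)).app ⊤ (tens a b)) = 0
    rw [tmap_tens, tmap_tens, h0, tens_zero_left]
  · rw [map_zero, map_zero]
  · intro a b _ _ ha hb
    rw [map_add, map_add, ha, hb, add_zero]
  · intro a _ ha
    rw [map_neg, map_neg, ha, neg_zero]

set_option maxHeartbeats 400000 in
/-- A morphism killing the global sections of a regular quasi-coherent module is zero. -/
theorem hom_eq_zero {F Q : (CohB1.ProjSpace n R).Modules} [F.IsQuasicoherent]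
    (h : ProjKoszul.Regularity.Reg F 0) (π : F ⟶ Q) (h0 : ∀ t, π.app ⊤ t = 0) : π = 0 := by
  have := ProjSpace.Basic.isProper_toSpec n R
  have : CompactSpace (CohB1.ProjSpace n R) :=
    QuasiCompact.compactSpace_of_compactSpace (CohB1.ProjSpace.toSpec n R)
  have : QuasiSeparatedSpace (CohB1.ProjSpace n R) :=
    quasiSeparatedSpace_of_quasiSeparated (CohB1.ProjSpace.toSpec n R)
  refine Modules.AffineHom.hom_ext_affine fun U a => ?_
  obtain ⟨S, hS, ha⟩ := H70.FTQuot.exists_family U.2 (fun _ : Fin 1 => a)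
  let M := Modules.SubStalk.subMod S
  let j : M ⟶ F := Modules.SubStalk.ι S
  have hM : Coh.IsCoh M := ⟨Modules.SubStalk.isQCoh_subMod hS, Modules.SubStalk.isFT_subMod hS⟩
  obtain ⟨k, hk⟩ := Ample.GG.eventually_genAt_twist (HProj.QuasiProj.isAmple_twist_projSpace n R) M hM
  obtain ⟨i⟩ := ProjCoh.Coherent.nonempty_tensorPow_iso (n := n) (R := R) k
  obtain ⟨ι, p, hp⟩ := Ample.GG.isGloballyGenerated_of_genAt (hk k le_rfl)
  have hz : tmap (j ≫ π) (𝟙 (tw n R (k : ℤ))) = 0 := by
    have : Epi (p ≫ (tensorIso (Iso.refl M) i.symm).hom) := @epi_comp _ _ _ _ _ p hp _ (IsIso.epi_of_iso _)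
    refine ProjKoszul.Regularity.isZero_of_epi_free (p ≫ (tensorIso (Iso.refl M) i.symm).hom) _ fun t => ?_
    have e : tmap (j ≫ π) (𝟙 (tw n R (k : ℤ))) = tmap j (𝟙 _) ≫ tmap π (𝟙 _) :=
      (tensorBy (tw n R (k : ℤ))).map_comp j π
    rw [e]
    exact twist_app_top_eq_zero h π h0 k _
  have := isEquivalence_tensor_tw (n := n) (R := R) (k : ℤ)
  have : (tensorBy (tw n R (k : ℤ))).Additive := Functor.additive_of_preserves_binary_products _
  have hjπ : j ≫ π = 0 := by
    refine (tensorBy (tw n R (k : ℤ))).map_injective ?_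
    rw [Functor.map_zero]
    exact hz
  let a' : Γ(M, U.1) := ⟨a, ha 0⟩
  exact congrArg (fun φ : M ⟶ Q => Scheme.Modules.Hom.app φ U.1 a') hjπ

end Chart

variable {n : ℕ} {T : Scheme.{u}}

/-- Morphisms vanishing on all charts are zero. -/
theorem eq_zero_of_rest {F Q : (KRR.PY n T).Modules} (φ : F ⟶ Q)
    (h : ∀ (V : T.Opens) (hV : IsAffineOpen V),
      (Scheme.Modules.restrictFunctor (Chart.emb hV)).map φ = 0) : φ = 0 := by
  refine Scheme.Modules.hom_ext _ _ fun U => ?_
  ext s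
  refine section_ext _ _ _ fun x hx => ?_
  obtain ⟨V, hV, hxV, -⟩ := exists_isAffineOpen_mem_and_subset (U := ⊤) (x := KRR.pr n T x) trivial
  let A := Chart.emb (n := n) hV ⁻¹ᵁ U
  have hA : Chart.emb (n := n) hV ''ᵁ A = KRR.pr n T ⁻¹ᵁ V ⊓ U := by
    rw [Scheme.Hom.image_preimage_eq_opensRange_inf, Chart.opensRange_emb]
  have hle : Chart.emb (n := n) hV ''ᵁ A ≤ U := hA.le.trans inf_le_right
  refine ⟨Chart.emb (n := n) hV ''ᵁ A, hle, hA ▸ (⟨hxV, hx⟩ : x ∈ KRR.pr n T ⁻¹ᵁ V ⊓ U), ?_⟩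
  rw [← app_rs]
  have := congrArg (fun ψ => Scheme.Modules.Hom.app ψ A (TensorMod.Dual.rs F hle s)) (h V hV)
  exact this.trans (map_zero _).symm

/-- The counit is an epimorphism on regular quasi-coherent modules. -/
theorem epi_counit {F : (KRR.PY n T).Modules} (hF : Coh.IsQCoh F) (hreg : KRR.IsRegSheaf n T F) :
    Epi ((Scheme.Modules.pullbackPushforwardAdjunction (KRR.pr n T)).counit.app F) := by
  let ad := Scheme.Modules.pullbackPushforwardAdjunction (KRR.pr n T)
  refine Preadditive.epi_of_cokernel_zero (eq_zero_of_rest _ fun V hV => ?_)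
  have := hF
  refine hom_eq_zero ((Local.isRegSheaf_iff F hF).1 hreg V hV) _ fun t => ?_
  suffices key : ∀ (W : (KRR.PY n T).Opens), W = KRR.pr n T ⁻¹ᵁ V →
      ∀ a : Γ(F, W), (cokernel.π (ad.counit.app F)).app W a = 0 from key _ (Chart.image_top hV) t
  rintro W rfl a
  have ha : a = (ad.counit.app F).app (KRR.pr n T ⁻¹ᵁ V)
      ((ad.unit.app ((Scheme.Modules.pushforward (KRR.pr n T)).obj F)).app V a) :=
    (congrArg (fun φ : (Scheme.Modules.pushforward (KRR.pr n T)).obj F ⟶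
        (Scheme.Modules.pushforward (KRR.pr n T)).obj F => Scheme.Modules.Hom.app φ V a)
      (ad.right_triangle_components F)).symm
  rw [ha]
  exact congrArg (fun φ => Scheme.Modules.Hom.app φ (KRR.pr n T ⁻¹ᵁ V)
    ((ad.unit.app ((Scheme.Modules.pushforward (KRR.pr n T)).obj F)).app V a)) (cokernel.condition _)

end Groth.Agent.Lib.H70.KRRReg.Counit
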