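import Groth.Agent.Lib.H70.KRRReg.Counit

/-!
# A quasi-coherent module is a quotient of twisted inverse images
-/

set_option autoImplicit false
set_option linter.style.haveILetI false

noncomputable section

universe u

open CategoryTheory CategoryTheory.Limits AlgebraicGeometry TopologicalSpace Opposite

namespace Groth.Agent.Lib.H70.KRRReg.EpiTwist

open Groth.Agent.Lib TensorMod.Basic
open Groth.Agent.Lib.ProjCoh.Coherent (tw)

variable {n : ℕ}

/-- A morphism whose positive twists kill all global sections is zero. -/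
theorem hom_eq_zero {R : Type u} [CommRing R] {F Q : (CohB1.ProjSpace n R).Modules} [F.IsQuasicoherent]
    (π : F ⟶ Q) (h : ∀ (k : ℕ) (z : Γ(CohB1.tensorMod F (tw n R ((k + 1 : ℕ) : ℤ)), ⊤)),
      (tmap π (𝟙 (tw n R ((k + 1 : ℕ) : ℤ)))).app ⊤ z = 0) : π = 0 := by
  have := ProjSpace.Basic.isProper_toSpec n R
  have : CompactSpace (CohB1.ProjSpace n R) :=
    QuasiCompact.compactSpace_of_compactSpace (CohB1.ProjSpace.toSpec n R)
  have : QuasiSeparatedSpace (CohB1.ProjSpace n R) :=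
    quasiSeparatedSpace_of_quasiSeparated (CohB1.ProjSpace.toSpec n R)
  refine Modules.AffineHom.hom_ext_affine fun U a => ?_
  obtain ⟨S, hS, ha⟩ := H70.FTQuot.exists_family U.2 (fun _ : Fin 1 => a)
  let M := Modules.SubStalk.subMod S
  let j : M ⟶ F := Modules.SubStalk.ι S
  have hM : Coh.IsCoh M := ⟨Modules.SubStalk.isQCoh_subMod hS, Modules.SubStalk.isFT_subMod hS⟩
  obtain ⟨k, hk⟩ := Ample.GG.eventually_genAt_twist (HProj.QuasiProj.isAmple_twist_projSpace n R) M hM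
  obtain ⟨i⟩ := ProjCoh.Coherent.nonempty_tensorPow_iso (n := n) (R := R) (k + 1)
  obtain ⟨ι, p, hp⟩ := Ample.GG.isGloballyGenerated_of_genAt (hk (k + 1) (Nat.le_succ k))
  have hz : tmap (j ≫ π) (𝟙 (tw n R ((k + 1 : ℕ) : ℤ))) = 0 := by
    have : Epi (p ≫ (tensorIso (Iso.refl M) i.symm).hom) := @epi_comp _ _ _ _ _ p hp _ (IsIso.epi_of_iso _)
    refine ProjKoszul.Regularity.isZero_of_epi_free (p ≫ (tensorIso (Iso.refl M) i.symm).hom) _ fun t => ?_
    have e : tmap (j ≫ π) (𝟙 (tw n R ((k + 1 : ℕ) : ℤ))) = tmap j (𝟙 _) ≫ tmap π (𝟙 _) :=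
      (tensorBy (tw n R ((k + 1 : ℕ) : ℤ))).map_comp j π
    rw [e]
    exact h k _
  have := Counit.isEquivalence_tensor_tw (n := n) (R := R) ((k + 1 : ℕ) : ℤ)
  have : (tensorBy (tw n R ((k + 1 : ℕ) : ℤ))).Additive := Functor.additive_of_preserves_binary_products _
  have hjπ : j ≫ π = 0 := by
    refine (tensorBy (tw n R ((k + 1 : ℕ) : ℤ))).map_injective ?_
    rw [Functor.map_zero]
    exact hz
  let a' : Γ(M, U.1) := ⟨a, ha 0⟩
  exact congrArg (fun φ : M ⟶ Q => Scheme.Modules.Hom.app φ U.1 a') hjπ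

variable {T : Scheme.{u}} {V : T.Opens} (hV : IsAffineOpen V)

theorem tbIso_natural (d : ℤ) {F Q : (KRR.PY n T).Modules} (φ : F ⟶ Q) :
    (Scheme.Modules.restrictFunctor (Chart.emb hV)).map ((H73.RegSeq.tb d).map φ) ≫
        (Chart.tbIso hV d Q).hom =
      (Chart.tbIso hV d F).hom ≫
        tmap ((Scheme.Modules.restrictFunctor (Chart.emb hV)).map φ) (𝟙 (tw n Γ(T, V) d)) := by
  let r := Scheme.Modules.restrictFunctorIsoPullback (Chart.emb (n := n) hV)
  let O := Twist.twistOver n T d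
  show (Scheme.Modules.restrictFunctor _).map (tmap φ (𝟙 O)) ≫
      ((r.hom.app _ ≫ TensorMod.Pullback.delta _ Q O ≫ tmap (r.inv.app Q) (r.inv.app O)) ≫
        tmap (𝟙 _) (Chart.twistIso hV d).hom) =
    ((r.hom.app _ ≫ TensorMod.Pullback.delta _ F O ≫ tmap (r.inv.app F) (r.inv.app O)) ≫
      tmap (𝟙 _) (Chart.twistIso hV d).hom) ≫ tmap _ (𝟙 _)
  have h1 := r.hom.naturality (tmap φ (𝟙 O))
  have h2 := TensorMod.Pullback.delta_natural (Chart.emb (n := n) hV) φ (𝟙 O)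
  have h3 := r.inv.naturality φ
  simp only [Category.assoc]
  rw [reassoc_of% h1, reassoc_of% h2, ← tmap_comp, ← tmap_comp, ← tmap_comp, ← tmap_comp]
  congr 3
  all_goals
    simp only [Category.comp_id, Category.id_comp, CategoryTheory.Functor.map_id]
  all_goals first | exact h3 | rfl

/-- Cancelling the inverse twist in front of a vanishing composite. -/
theorem comp_map_eq_zero {A : Type*} [Category A] [Preadditive A] (a b : A ⥤ A) [b.Faithful] [b.Additive]
    (ν : a ⋙ b ≅ 𝟭 A) {F Q P : A} (η : P ⟶ a.obj F) (π : F ⟶ Q)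
    (h : b.map η ≫ ν.hom.app F ≫ π = 0) : η ≫ a.map π = 0 := by
  refine b.map_injective ?_
  rw [b.map_comp, b.map_zero, ← cancel_mono (ν.hom.app Q), zero_comp, Category.assoc]
  exact (congrArg (b.map η ≫ ·) (ν.hom.naturality π)).trans h

theorem comp_cokernel_π {A : Type*} [Category A] [Abelian A] {β : Type*} {X : β → A} [HasCoproduct X]
    {F : A} (f : ∀ k, X k ⟶ F) (k : β) : f k ≫ cokernel.π (Sigma.desc f) = 0 := by
  rw [← Sigma.ι_desc f k, Category.assoc, cokernel.condition, comp_zero]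

/-- Killing twisted counits on a chart forces zero. -/
theorem rest_eq_zero {F Q : (KRR.PY n T).Modules} (hF : Coh.IsQCoh F) (π : F ⟶ Q)
    (h : ∀ k : ℕ, (Scheme.Modules.pullbackPushforwardAdjunction (KRR.pr n T)).counit.app
        ((H73.RegSeq.tb ((k + 1 : ℕ) : ℤ)).obj F) ≫ (H73.RegSeq.tb ((k + 1 : ℕ) : ℤ)).map π = 0) :
    (Scheme.Modules.restrictFunctor (Chart.emb hV)).map π = 0 := by
  let ad := Scheme.Modules.pullbackPushforwardAdjunction (KRR.pr n T)
  have := hF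
  refine hom_eq_zero _ fun k z => ?_
  have key : ∀ (W : (KRR.PY n T).Opens), W = KRR.pr n T ⁻¹ᵁ V →
      ∀ a : Γ((H73.RegSeq.tb ((k + 1 : ℕ) : ℤ)).obj F, W),
        ((H73.RegSeq.tb ((k + 1 : ℕ) : ℤ)).map π).app W a = 0 := by
    rintro W rfl a
    let G := (H73.RegSeq.tb ((k + 1 : ℕ) : ℤ)).obj F
    have ha : a = (ad.counit.app G).app (KRR.pr n T ⁻¹ᵁ V)
        ((ad.unit.app ((Scheme.Modules.pushforward (KRR.pr n T)).obj G)).app V a) :=
      (congrArg (fun φ : (Scheme.Modules.pushforward (KRR.pr n T)).obj G ⟶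
        (Scheme.Modules.pushforward (KRR.pr n T)).obj G => Scheme.Modules.Hom.app φ V a)
        (ad.right_triangle_components G)).symm
    rw [ha]
    exact congrArg (fun φ => Scheme.Modules.Hom.app φ (KRR.pr n T ⁻¹ᵁ V)
      ((ad.unit.app ((Scheme.Modules.pushforward (KRR.pr n T)).obj G)).app V a)) (h k)
  obtain ⟨w, rfl⟩ := (ConcreteCategory.bijective_of_isIso
    ((Chart.tbIso hV ((k + 1 : ℕ) : ℤ) F).hom.app ⊤)).2 z
  have hn := congrArg (fun φ => Scheme.Modules.Hom.app φ ⊤ w) (tbIso_natural hV ((k + 1 : ℕ) : ℤ) π)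
  refine hn.symm.trans ?_
  exact (congrArg ((Chart.tbIso hV ((k + 1 : ℕ) : ℤ) Q).hom.app ⊤) (key _ (Chart.image_top hV) w)).trans
    (map_zero _)

/-- The inverse twist cancels. -/
def cancel (m : ℤ) : H73.RegSeq.tb (n := n) (T := T) m ⋙ H73.RegSeq.tb (-m) ≅ 𝟭 _ :=
  ProjCoh.Coherent.cancelNat (H73.RegSeq.overTensor m (-m) ≪≫ eqToIso (by rw [add_neg_cancel]) ≪≫
    H73.RegSeq.overZero)

/-- The source of the components. -/
abbrev src (F : (KRR.PY n T).Modules) (m : ℤ) : (KRR.PY n T).Modules :=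
  (H73.RegSeq.tb (-m)).obj ((Scheme.Modules.pullback (KRR.pr n T)).obj
    ((Scheme.Modules.pushforward (KRR.pr n T)).obj ((H73.RegSeq.tb m).obj F)))

set_option maxHeartbeats 400000 in
/-- The components. -/
def comp' (F : (KRR.PY n T).Modules) (m : ℤ) : src F m ⟶ F :=
  (H73.RegSeq.tb (-m)).map
      ((Scheme.Modules.pullbackPushforwardAdjunction (KRR.pr n T)).counit.app ((H73.RegSeq.tb m).obj F)) ≫
    (cancel m).hom.app F

theorem counit_map_eq_zero {F Q : (KRR.PY n T).Modules} (π : F ⟶ Q) (m : ℤ) (h : comp' F m ≫ π = 0) :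
    (Scheme.Modules.pullbackPushforwardAdjunction (KRR.pr n T)).counit.app
        ((H73.RegSeq.tb m).obj F) ≫ (H73.RegSeq.tb m).map π = 0 := by
  unfold comp' at h
  rw [Category.assoc] at h
  exact comp_map_eq_zero (H73.RegSeq.tb m) (H73.RegSeq.tb (-m)) (cancel m) _ π h

/-- Morphisms killed by all components vanish. -/
theorem eq_zero_of_comp {F Q : (KRR.PY n T).Modules} (hF : Coh.IsQCoh F) (π : F ⟶ Q)
    (h : ∀ k : ℕ, comp' F ((k + 1 : ℕ) : ℤ) ≫ π = 0) : π = 0 :=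
  Counit.eq_zero_of_rest π fun V hV =>
    rest_eq_zero hV hF π fun k => counit_map_eq_zero π ((k + 1 : ℕ) : ℤ) (h k)

theorem epi_desc {A : Type*} [Category A] [Preadditive A] {β : Type*} {X : β → A} [HasCoproduct X]
    {F : A} (f : ∀ k, X k ⟶ F) (h : ∀ {Q : A} (π : F ⟶ Q), (∀ k, f k ≫ π = 0) → π = 0) :
    Epi (Sigma.desc f) :=
  Preadditive.epi_of_cancel_zero _ fun π hπ => h π fun k => by
    rw [← Sigma.ι_desc f k, Category.assoc, hπ, comp_zero]

/-- The epimorphism. -/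
theorem exists_epi {F : (KRR.PY n T).Modules} (hF : Coh.IsQCoh F) (m : ULift.{u} ℕ → ℤ)
    (hm : ∀ k : ℕ, m ⟨k⟩ = ((k + 1 : ℕ) : ℤ)) :
    ∃ p : (∐ fun k : ULift.{u} ℕ => src F (m k)) ⟶ F, Epi p :=
  ⟨Sigma.desc fun k => comp' F (m k), epi_desc (fun k => comp' F (m k))
    fun π h => eq_zero_of_comp hF π fun k => by
      rw [← hm k]
      exact h ⟨k⟩⟩

end Groth.Agent.Lib.H70.KRRReg.EpiTwist
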