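import Groth.Agent.Lib.H70.KRRReg.UnitSurj
import Groth.Agent.Lib.H70.KRRReg.Counit
import Groth.Agent.Lib.QCoh.Closure
import Groth.Agent.Lib.QCoh.Pushforward

/-!
# The kernel of `p^* p_* F ⟶ F` for a regular module

* `Kernel.epi_push_counit`, `Kernel.mono_push_counit`: `p_*` of the counit is bijective.
* `Kernel.isRegSheaf_kernel`: the kernel twisted by `1` is regular.
-/

set_option autoImplicit false
set_option linter.style.haveILetI false

noncomputable section

universe u

open CategoryTheory CategoryTheory.Limits AlgebraicGeometry TopologicalSpace Opposite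

namespace Groth.Agent.Lib.H70.KRRReg.Kernel

open Groth.Agent.Lib TensorMod.Basic

/-- The unit of inverse image on sections. -/
abbrev η {X Y : Scheme.{u}} (f : X ⟶ Y) (N : Y.Modules) (V : Y.Opens) :
    Γ(N, V) → Γ((Scheme.Modules.pullback f).obj N, f ⁻¹ᵁ V) :=
  ((Scheme.Modules.pullbackPushforwardAdjunction f).unit.app N).app V

theorem η_bijective_of_open {X Y : Scheme.{u}} (j : Y ⟶ X) [IsOpenImmersion j] (M : X.Modules)
    {U : X.Opens} (hU : U ≤ j.opensRange) : Function.Bijective (η j M U) := by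
  have h1 := Adjunction.unit_leftAdjointUniq_hom_app (Scheme.Modules.restrictAdjunction j)
    (Scheme.Modules.pullbackPushforwardAdjunction j) M
  have h' : ((Scheme.Modules.pullbackPushforwardAdjunction j).unit.app M).app U =
      M.presheaf.map (homOfLE (j.image_preimage_le U)).op ≫
        ((Scheme.Modules.restrictFunctorIsoPullback j).hom.app M).app (j ⁻¹ᵁ U) := by
    rw [← h1]
    rfl
  have e : U ≤ j ''ᵁ j ⁻¹ᵁ U := fun x hx => by
    obtain ⟨y, rfl⟩ := hU hx
    exact ⟨y, hx, rfl⟩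
  have hi : IsIso (homOfLE (j.image_preimage_le U)) := ⟨homOfLE e, rfl, rfl⟩
  show Function.Bijective (((Scheme.Modules.pullbackPushforwardAdjunction j).unit.app M).app U)
  rw [h']
  exact (ConcreteCategory.bijective_of_isIso
      (((Scheme.Modules.restrictFunctorIsoPullback j).hom.app M).app (j ⁻¹ᵁ U))).comp
    (ConcreteCategory.bijective_of_isIso (M.presheaf.map (homOfLE (j.image_preimage_le U)).op))

/-- The unit of a composite on sections. -/
theorem η_comp {X Y Z : Scheme.{u}} (f : X ⟶ Y) (g : Y ⟶ Z) (N : Z.Modules) (V : Z.Opens)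
    (a : Γ(N, V)) :
    η f ((Scheme.Modules.pullback g).obj N) (g ⁻¹ᵁ V) (η g N V a) =
      ((Scheme.Modules.pullbackComp f g).inv.app N).app (f ⁻¹ᵁ (g ⁻¹ᵁ V)) (η (f ≫ g) N V a) := by
  have h := unit_conjugateEquiv
    ((Scheme.Modules.pullbackPushforwardAdjunction g).comp (Scheme.Modules.pullbackPushforwardAdjunction f))
    (Scheme.Modules.pullbackPushforwardAdjunction (f ≫ g)) (Scheme.Modules.pullbackComp f g).inv N
  rw [Scheme.Modules.conjugateEquiv_pullbackComp_inv] at h
  exact congrArg (fun φ => Scheme.Modules.Hom.app φ V a) h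

theorem η_congr {X Z : Scheme.{u}} {h h' : X ⟶ Z} (e : h = h') (N : Z.Modules) (V : Z.Opens)
    (hs : Function.Surjective (η h N V)) : Function.Surjective (η h' N V) :=
  e ▸ hs

/-- Surjectivity of the unit through another factorisation. -/
theorem η_surjective_of_factor {P P' S S' : Scheme.{u}} (i : P' ⟶ P) (p : P ⟶ S) (q : P' ⟶ S')
    (j : S' ⟶ S) (w : q ≫ j = i ≫ p) (N : S.Modules) (V : S.Opens)
    (hi : Function.Injective (η i ((Scheme.Modules.pullback p).obj N) (p ⁻¹ᵁ V)))
    (hq : Function.Surjective (η q ((Scheme.Modules.pullback j).obj N) (j ⁻¹ᵁ V)))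
    (hj : Function.Surjective (η j N V)) : Function.Surjective (η p N V) := by
  have h1 : Function.Surjective (η (q ≫ j) N V) := fun x => by
    obtain ⟨a, ha⟩ := (hq.comp hj) (((Scheme.Modules.pullbackComp q j).inv.app N).app _ x)
    refine ⟨a, (ConcreteCategory.bijective_of_isIso
      (((Scheme.Modules.pullbackComp q j).inv.app N).app (q ⁻¹ᵁ (j ⁻¹ᵁ V)))).1 ?_⟩
    exact (η_comp q j N V a).symm.trans ha
  have h2 := η_congr w N V h1
  intro b
  obtain ⟨a, ha⟩ := h2 (((Scheme.Modules.pullbackComp i p).hom.app N).app _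
    (η i ((Scheme.Modules.pullback p).obj N) (p ⁻¹ᵁ V) b))
  refine ⟨a, hi ((η_comp i p N V a).trans ?_)⟩
  rw [ha]
  exact congrArg (fun φ => Scheme.Modules.Hom.app φ (i ⁻¹ᵁ (p ⁻¹ᵁ V))
    (η i ((Scheme.Modules.pullback p).obj N) (p ⁻¹ᵁ V) b))
    ((Scheme.Modules.pullbackComp i p).app N).hom_inv_id

/-- On `P^n_R`, the unit is surjective on global sections of quasi-coherent modules. -/
theorem η_top_surjective (n : ℕ) (R : Type u) [CommRing R] (N : (Spec (CommRingCat.of R)).Modules)
    [N.IsQuasicoherent] : Function.Surjective (η (CohB1.ProjSpace.toSpec n R) N ⊤) := by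
  haveI hiso : IsIso (Scheme.Modules.fromTildeΓ (R := CommRingCat.of R) N) :=
    Scheme.Modules.isIso_fromTildeΓ_of_isQuasicoherent (R := CommRingCat.of R) N
  let M : ModuleCat.{u} R := (moduleSpecΓFunctor (R := CommRingCat.of R)).obj N
  let f := CohB1.ProjSpace.toSpec n R
  let e : (Scheme.Modules.pullback f).obj ((tilde.functor (CommRingCat.of R)).obj M) ≅
      (Scheme.Modules.pullback f).obj N :=
    (Scheme.Modules.pullback f).mapIso (@asIso _ _ _ _ (Scheme.Modules.fromTildeΓ (R := CommRingCat.of R) N) hiso)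
  intro b
  obtain ⟨m, hm⟩ := UnitSurj.pbSec_surjective n R M (e.inv.app ⊤ b)
  refine ⟨(Scheme.Modules.fromTildeΓ (R := CommRingCat.of R) N).app ⊤ (ZarCoh.Exchange.Sections.topSec M m), ?_⟩
  have hn := ConcreteCategory.congr_hom (congrArg (fun t => t.app ⊤)
    ((Scheme.Modules.pullbackPushforwardAdjunction f).unit.naturality (Scheme.Modules.fromTildeΓ (R := CommRingCat.of R) N)))
    (ZarCoh.Exchange.Sections.topSec M m)
  refine hn.trans ?_
  have hm' : η f _ ⊤ (ZarCoh.Exchange.Sections.topSec M m) = e.inv.app ⊤ b := by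
    refine Eq.trans ?_ hm
    exact (TensorMod.Dual.rs_self _ _ _).symm
  show e.hom.app ⊤ _ = b
  exact (congrArg (e.hom.app ⊤) hm').trans
    (congrArg (fun φ => Scheme.Modules.Hom.app φ ⊤ b) e.inv_hom_id)

variable {n : ℕ} {T : Scheme.{u}}

/-- Sections of `p^* N` over the preimage of an affine open come from `N`. -/
theorem η_surjective (N : T.Modules) (hN : Coh.IsQCoh N) {V : T.Opens} (hV : IsAffineOpen V) :
    Function.Surjective (η (KRR.pr n T) N V) := by
  haveI := hN
  haveI := QCoh.Pullback.isQCoh_pullback hV.fromSpec N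
  refine η_surjective_of_factor (Chart.emb hV) (KRR.pr n T) (CohB1.ProjSpace.toSpec n Γ(T, V))
    hV.fromSpec (Chart.emb_pr hV).symm N V (η_bijective_of_open _ _ (Chart.opensRange_emb hV).ge).1 ?_
    (η_bijective_of_open _ _ hV.opensRange_fromSpec.ge).2
  have key : ∀ (W : (Spec Γ(T, V)).Opens), W = ⊤ →
      Function.Surjective (η (CohB1.ProjSpace.toSpec n Γ(T, V)) ((Scheme.Modules.pullback hV.fromSpec).obj N) W) := by
    rintro W rfl
    exact η_top_surjective n Γ(T, V) _
  exact key _ hV.fromSpec_preimage_self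

/-- `p_*` of the counit is injective on sections over affine opens. -/
theorem mono_push_counit {F : (KRR.PY n T).Modules} (hF : Coh.IsQCoh F) {V : T.Opens} (hV : IsAffineOpen V)
    (b : Γ((Scheme.Modules.pullback (KRR.pr n T)).obj ((Scheme.Modules.pushforward (KRR.pr n T)).obj F),
      KRR.pr n T ⁻¹ᵁ V))
    (hb : ((Scheme.Modules.pullbackPushforwardAdjunction (KRR.pr n T)).counit.app F).app _ b = 0) :
    b = 0 := by
  haveI := hF
  obtain ⟨a, rfl⟩ := η_surjective (n := n) _ (QCoh.Pushforward.isQCoh_pushforward (KRR.pr n T)) hV b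
  have := congrArg (fun φ : (Scheme.Modules.pushforward (KRR.pr n T)).obj F ⟶
      (Scheme.Modules.pushforward (KRR.pr n T)).obj F => Scheme.Modules.Hom.app φ V a)
    ((Scheme.Modules.pullbackPushforwardAdjunction (KRR.pr n T)).right_triangle_components F)
  have ha : a = 0 := this.symm.trans hb
  rw [ha]
  exact map_zero (((Scheme.Modules.pullbackPushforwardAdjunction (KRR.pr n T)).unit.app
    ((Scheme.Modules.pushforward (KRR.pr n T)).obj F)).app V).hom

/-- `0 → Z → p^* p_* F → F → 0`. -/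
abbrev seq (F : (KRR.PY n T).Modules) : ShortComplex (KRR.PY n T).Modules :=
  ShortComplex.mk (kernel.ι ((Scheme.Modules.pullbackPushforwardAdjunction (KRR.pr n T)).counit.app F))
    ((Scheme.Modules.pullbackPushforwardAdjunction (KRR.pr n T)).counit.app F) (kernel.condition _)

theorem shortExact_seq {F : (KRR.PY n T).Modules} (hF : Coh.IsQCoh F) (h : KRR.IsRegSheaf n T F) :
    (seq F).ShortExact := by
  haveI := Counit.epi_counit hF h
  exact { exact := ShortComplex.exact_of_f_is_kernel _ (kernelIsKernel _) }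

theorem isQCoh_push {F : (KRR.PY n T).Modules} (hF : Coh.IsQCoh F) :
    Coh.IsQCoh ((Scheme.Modules.pushforward (KRR.pr n T)).obj F) := by
  haveI := hF
  exact QCoh.Pushforward.isQCoh_pushforward (KRR.pr n T)

theorem isQCoh_mid {F : (KRR.PY n T).Modules} (hF : Coh.IsQCoh F) : Coh.IsQCoh (seq F).X₂ := by
  haveI := isQCoh_push hF
  exact QCoh.Pullback.isQCoh_pullback _ ((Scheme.Modules.pushforward (KRR.pr n T)).obj F)

theorem isQCoh_kernel {F : (KRR.PY n T).Modules} (hF : Coh.IsQCoh F) : Coh.IsQCoh (seq F).X₁ := by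
  haveI := hF
  exact @QCoh.Closure.isQCoh_kernel _ _ _ (isQCoh_mid hF) hF _

/-- Beyond the relative dimension everything vanishes. -/
theorem isZero_Rp_of_lt {F : (KRR.PY n T).Modules} (hF : Coh.IsQCoh F) (d : ℤ) (i : ℕ) (hi : n < i) :
    IsZero (H73.RegSeq.Rp i ((H73.RegSeq.tb d).obj F)) := by
  refine (Local.isZero_Rp_tb_iff F hF d i (by omega)).2 fun V hV => ?_
  haveI := hF
  haveI : (Chart.rest (n := n) hV F).IsQuasicoherent := inferInstance
  haveI : (ProjCoh.Coherent.tw n Γ(T, V) d).IsQuasicoherent := (ProjCoh.Coherent.isCoh_tw d).1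
  haveI := TensorMod.TensorQCoh.isQCoh_tensorMod (Chart.rest (n := n) hV F) (ProjCoh.Coherent.tw n Γ(T, V) d)
  exact ProjCoh.Twist.subsingleton_HH_of_lt _ hi

theorem mid_vanish {F : (KRR.PY n T).Modules} (hF : Coh.IsQCoh F) (d : ℤ) (i : ℕ) (hi : 1 ≤ i)
    (hd : -(n : ℤ) ≤ d) : IsZero (H73.RegSeq.Rp i ((H73.RegSeq.tb d).obj (seq F).X₂)) :=
  PullbackVanish.isZero_Rp_tb_pullback _ (isQCoh_push hF) i hi d hd

theorem tbZero (F : (KRR.PY n T).Modules) : Nonempty ((H73.RegSeq.tb 0).obj F ≅ F) :=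
  ⟨tensorIso (Iso.refl F) H73.RegSeq.overZero ≪≫ rightUnit F⟩

theorem epi_push_g (F : (KRR.PY n T).Modules) :
    Epi ((Scheme.Modules.pushforward (KRR.pr n T)).map (seq F).g) :=
  haveI : IsSplitEpi ((Scheme.Modules.pushforward (KRR.pr n T)).map (seq F).g) :=
    IsSplitEpi.mk' ⟨_, (Scheme.Modules.pullbackPushforwardAdjunction (KRR.pr n T)).right_triangle_components F⟩
  inferInstance

/-- The twisted kernel is regular. -/
theorem isRegSheaf_kernel {F : (KRR.PY n T).Modules} (hF : Coh.IsQCoh F) (h : KRR.IsRegSheaf n T F) :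
    KRR.IsRegSheaf n T (KRR.twF n T 1 (seq F).X₁) := by
  rw [H73.RegSeq.reg_twF_iff]
  intro i hi
  rcases Nat.lt_or_ge n i with hni | hni
  · exact isZero_Rp_of_lt (isQCoh_kernel hF) _ i hni
  obtain ⟨j, rfl⟩ : ∃ j, i = j + 1 := ⟨i - 1, by omega⟩
  rcases Nat.eq_zero_or_pos j with rfl | hj
  · obtain ⟨e⟩ := tbZero (n := n) (T := T) (seq F).X₁
    obtain ⟨e'⟩ := tbZero (n := n) (T := T) (seq F).X₂
    refine H73.RegSeq.isZero_congr 1 (e.symm ≪≫ eqToIso (by norm_num)) ?_
    exact H73.RegSeq.left_zero (seq F) (shortExact_seq hF h) (epi_push_g F)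
      (H73.RegSeq.isZero_congr 1 e' (mid_vanish hF 0 1 le_rfl (by omega)))
  · refine H73.RegSeq.left (seq F) (shortExact_seq hF h) _ j ?_ (mid_vanish hF _ _ hi (by omega))
    exact Local.isZero_Rp_of_le hF h j hj _ (by omega)

end Groth.Agent.Lib.H70.KRRReg.Kernel
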