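import Groth.Agent.Lib.ExchangeFP29.KPush.Push

/-!
# The Koszul identity for direct images of relatively acyclic bundles
-/

set_option autoImplicit false
set_option linter.style.haveILetI false

noncomputable section

universe u

open CategoryTheory CategoryTheory.Limits AlgebraicGeometry

namespace Groth.Agent.Lib.H70.KRRReg.KoszulPush

open Groth.Agent Groth.Agent.Lib Groth.Agent.Lib.TensorMod.Basic
open Groth.Agent.Lib.ExchangeFP29.KPush Groth.Agent.Lib.ExchangeFP29.KPush.Reg

variable {n : ℕ} {T : Scheme.{u}}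

local notation "p*" => Scheme.Modules.pushforward (KRR.pr n T)

/-- No higher direct images and a locally free direct image. -/
def Good (F : (KRR.PY n T).Modules) : Prop :=
  (∀ i : ℕ, 1 ≤ i → IsZero (H73.RegSeq.Rp i (tw 0 F))) ∧ FlatMod.IsFinLocFree ((p*).obj F)

/-- The class of the direct image. -/
abbrev χ (F : (KRR.PY n T).Modules) : SGA6.Kvb T := KRR.cl T ((p*).obj F)

theorem good_congr {F G : (KRR.PY n T).Modules} (e : F ≅ G) (h : Good F) : Good G :=
  ⟨fun i hi => H73.RegSeq.isZero_congr i ((H73.RegSeq.tb 0).mapIso e) (h.1 i hi),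
    TensorMod.LocFree.of_iso ((p*).mapIso e) h.2⟩

theorem χ_iso {F G : (KRR.PY n T).Modules} (e : F ≅ G) (h : Good F) : χ F = χ G :=
  KAugNil98.Main.cl_iso ((p*).mapIso e) h.2

theorem good_of_isZero {F : (KRR.PY n T).Modules} (h : IsZero F) : Good F :=
  ⟨fun i hi => H70.KRRReg.Local.isZero_Rp_of_le (isQCoh_of_B (RB_of_isZero h).1) (RB_of_isZero h).2 i hi 0
      (by omega),
    KAugNil98.Main.isFinLocFree_isZero
      (haveI := (Scheme.Modules.pullbackPushforwardAdjunction (KRR.pr n T)).isRightAdjoint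
       (p*).map_isZero h)⟩

theorem shortExact_push {S : ShortComplex (KRR.PY n T).Modules} (hS : S.ShortExact)
    (h1 : IsZero (H73.RegSeq.Rp 1 (tw 0 S.X₁))) : (S.map p*).ShortExact := by
  haveI : (p*).IsRightAdjoint := (Scheme.Modules.pullbackPushforwardAdjunction _).isRightAdjoint
  haveI : PreservesLimitsOfSize.{0, 0} p* :=
    (Scheme.Modules.pullbackPushforwardAdjunction _).rightAdjoint_preservesLimits
  haveI : PreservesFiniteLimits p* := PreservesLimitsOfSize.preservesFiniteLimits _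
  haveI hm := hS.mono_f
  refine { exact := hS.exact.map_of_mono_of_preservesKernel _ hm inferInstance,
           mono_f := inferInstanceAs (Mono ((p*).map S.f)),
           epi_g := ?_ }
  have hS' : (S.map (H34.HOne.ab _)).ShortExact := H34.HOne.shortExact_toAb hS
  have h1' : IsZero (H73.RegSeq.Rp 1 S.X₁) :=
    H73.RegSeq.isZero_congr 1 (tensorIso (Iso.refl _) H73.RegSeq.overZero ≪≫ rightUnit _) h1
  haveI h0 : Epi (((Coh.pushAb (KRR.pr n T)).rightDerived 0).map (S.map (H34.HOne.ab _)).g) :=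
    ((H73.RegSeq.les (n := n) (T := T)).exact₃ _ hS' 0 1 rfl).epi_f (h1'.eq_of_tgt _ _)
  have hg : Epi ((Coh.pushAb (KRR.pr n T)).map (S.map (H34.HOne.ab _)).g) :=
    ((MorphismProperty.epimorphisms _).arrow_mk_iso_iff
      (Arrow.isoMk (((Coh.pushAb (KRR.pr n T)).rightDerivedZeroIsoSelf).app _)
        (((Coh.pushAb (KRR.pr n T)).rightDerivedZeroIsoSelf).app _)
        (((Coh.pushAb (KRR.pr n T)).rightDerivedZeroIsoSelf).hom.naturality _).symm)).1 h0
  show Epi ((p*).map S.g)
  haveI : Epi ((H34.HOne.ab T).map ((p*).map S.g)) := hg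
  refine Preadditive.epi_of_cancel_zero _ fun {W} k hk => ?_
  refine (SheafOfModules.toSheaf T.ringCatSheaf).map_injective ?_
  show (H34.HOne.ab T).map k = (H34.HOne.ab T).map 0
  rw [Functor.map_zero, ← cancel_epi ((H34.HOne.ab T).map ((p*).map S.g)), ← Functor.map_comp, hk,
    Functor.map_zero, comp_zero]

theorem χ_add {S : ShortComplex (KRR.PY n T).Modules} (hS : S.ShortExact) (h1 : Good S.X₁)
    (h2 : Good S.X₂) (h3 : Good S.X₃) : χ S.X₂ = χ S.X₁ + χ S.X₃ :=
  KAugNil98.Main.clSub_shortExact (shortExact_push hS (h1.1 1 le_rfl)) h1.2 h2.2 h3.2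

theorem good_middle {S : ShortComplex (KRR.PY n T).Modules} (hS : S.ShortExact) (h1 : Good S.X₁)
    (h3 : Good S.X₃) (hB : FlatMod.IsFinLocFree ((p*).obj S.X₂)) : Good S.X₂ :=
  ⟨fun i hi => H73.RegSeq.middle S hS 0 i (h1.1 i hi) (h3.1 i hi), hB⟩

theorem good_sigma {A : (KRR.PY n T).Modules} (hA : Good A) :
    ∀ m : ℕ, Good (∐ fun _ : Fin m => A) ∧ χ (∐ fun _ : Fin m => A) = m • χ A := by
  intro m
  induction m with
  | zero =>
    have hz : IsZero (∐ fun _ : Fin 0 => A) :=
      (IsZero.iff_id_eq_zero _).2 (Sigma.hom_ext _ _ fun b => Fin.elim0 b)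
    haveI := (Scheme.Modules.pullbackPushforwardAdjunction (KRR.pr n T)).isRightAdjoint
    exact ⟨good_of_isZero hz,
      by rw [zero_smul]; exact KAugNil98.Main.cl_isZero ((p*).map_isZero hz)⟩
  | succ m ih =>
    let e : (∐ fun _ : Fin m => A) ⊞ A ≅ ∐ fun _ : Fin (m + 1) => A :=
      biprod.mapIso (Iso.refl _) (coproductUniqueIso fun _ : Fin 1 => A).symm ≪≫
        ProjKoszul.Iterate.biprodSigmaIso A m 1
    have hS := (ShortComplex.Splitting.ofHasBinaryBiproduct (∐ fun _ : Fin m => A) A).shortExact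
    haveI := (Scheme.Modules.pullbackPushforwardAdjunction (KRR.pr n T)).isRightAdjoint
    haveI : PreservesLimitsOfSize.{0, 0} p* :=
      (Scheme.Modules.pullbackPushforwardAdjunction _).rightAdjoint_preservesLimits
    haveI : PreservesBinaryBiproduct (∐ fun _ : Fin m => A) A p* :=
      preservesBinaryBiproduct_of_preservesBinaryProduct _
    have hB : FlatMod.IsFinLocFree ((p*).obj ((∐ fun _ : Fin m => A) ⊞ A)) :=
      TensorMod.LocFree.of_iso ((biprod.isoCoprod _ _).symm ≪≫ ((p*).mapBiprod _ _).symm)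
        (TensorMod.LocFree.isFinLocFree_biprod ih.1.2 hA.2)
    have hg := good_middle hS ih.1 hA hB
    exact ⟨good_congr e hg, by rw [← χ_iso e hg, χ_add hS ih.1 hg hA, ih.2, succ_nsmul]⟩

open Groth.Agent.Lib.ExchangeFP29.KPush.Koszul

/-- The Koszul identity for direct images. -/
theorem koszul_sum (F : (KRR.PY n T).Modules) (hF : ∀ j, j ≤ n + 1 → Good (tw (j : ℤ) F)) :
    ∑ j ∈ Finset.range (n + 2), (-1 : ℤ) ^ j • (n + 1).choose j • χ (tw (j : ℤ) F) = 0 := by
  have hX : ∀ j : ℕ, j ≤ n + 1 → Good ((koszul F).X (-((n + 1 : ℕ) : ℤ) + j)) ∧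
      χ ((koszul F).X (-((n + 1 : ℕ) : ℤ) + j)) = (n + 1).choose j • χ (tw (j : ℤ) F) := fun j hj => by
    obtain ⟨e⟩ := nonempty_term F j
    obtain ⟨h1, h2⟩ := good_sigma (hF j hj) ((n + 1).choose j)
    exact ⟨good_congr e.symm h1, by rw [← χ_iso e.symm h1, h2]⟩
  have e : ∀ j : ℕ, -((n + 1 : ℕ) : ℤ) + (j : ℤ) + 1 = -((n + 1 : ℕ) : ℤ) + ((j + 1 : ℕ) : ℤ) := fun j => by
    push_cast; ring
  have hA : ∀ j, j ≤ n + 1 → ∀ i : ℕ, 1 ≤ i →
      IsZero (H73.RegSeq.Rp i (tw 0 ((koszul F).cycles (-((n + 1 : ℕ) : ℤ) + j)))) := by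
    intro j
    induction j with
    | zero =>
      exact fun _ => (good_of_isZero (AltSum.isZero_cycles _ _ (exactAt_koszul F _)
        (isZero_koszul F _ (Or.inl (by omega))))).1
    | succ j ih =>
      intro hj i hi
      have hS := AltSum.shortExact_sc (koszul F) (-((n + 1 : ℕ) : ℤ) + j) (exactAt_koszul F _)
      have := H73.RegSeq.right _ hS 0 i ((hX j (by omega)).1.1 i hi) (ih (by omega) (i + 1) (by omega))
      rw [← e]
      exact this
  have hB : ∀ k j, j + k = n + 1 →
      FlatMod.IsFinLocFree ((p*).obj ((koszul F).cycles (-((n + 1 : ℕ) : ℤ) + j))) := by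
    intro k
    induction k with
    | zero =>
      intro j hj
      exact TensorMod.LocFree.of_iso
        ((p*).mapIso (AltSum.topIso (koszul F) _ (isZero_koszul F _ (Or.inr (by omega))))).symm
        (hX j (by omega)).1.2
    | succ k ih =>
      intro j hj
      have hS := shortExact_push (AltSum.shortExact_sc (koszul F) (-((n + 1 : ℕ) : ℤ) + j) (exactAt_koszul F _))
        (hA j (by omega) 1 le_rfl)
      haveI : Epi ((p*).map (AltSum.sc (koszul F) (-((n + 1 : ℕ) : ℤ) + j)).g) := hS.epi_g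
      have h3 : FlatMod.IsFinLocFree ((p*).obj (AltSum.sc (koszul F) (-((n + 1 : ℕ) : ℤ) + j)).X₃) := by
        show FlatMod.IsFinLocFree ((p*).obj ((koszul F).cycles _))
        rw [e]
        exact ih (j + 1) (by omega)
      exact TensorMod.LocFree.of_iso ((kernelIsKernel _).conePointUniqueUpToIso hS.fIsKernel)
        (KAugNil98.Main.isFinLocFree_kernel ((p*).map (AltSum.sc (koszul F) (-((n + 1 : ℕ) : ℤ) + j)).g)
          (hX j (by omega)).1.2 h3)
  have hZ : ∀ j, j ≤ n + 1 → Good ((koszul F).cycles (-((n + 1 : ℕ) : ℤ) + j)) := fun j hj =>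
    ⟨hA j hj, hB (n + 1 - j) j (by omega)⟩
  have := AltSum.alt_sum (koszul F) Good χ (fun S hS h1 h2 h3 => χ_add hS h1 h2 h3)
    (fun e h => χ_iso e h)
    (fun A h => KAugNil98.Main.cl_isZero
      (haveI := (Scheme.Modules.pullbackPushforwardAdjunction (KRR.pr n T)).isRightAdjoint
       (p*).map_isZero h))
    (n + 1) (exactAt_koszul F)
    (isZero_koszul F 1 (Or.inr one_pos)) (isZero_koszul F _ (Or.inl (by omega)))
    (fun j hj => (hX j hj).1) hZ
  rw [← this]
  exact Finset.sum_congr rfl fun j hj => by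
    rw [(hX j (by have := Finset.mem_range.1 hj; omega)).2]

end Groth.Agent.Lib.H70.KRRReg.KoszulPush
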