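import Groth.Agent.Lib.H70.KRRReg.UnitSurj
import Groth.Agent.Lib.ProjCoh.Homog
import Groth.Agent.Lib.Modules.AffineHom

/-!
# `p_* (p^* N)(d) = 0` for `d < 0`
-/

set_option autoImplicit false
set_option linter.style.haveILetI false

noncomputable section

universe u

open CategoryTheory CategoryTheory.Limits AlgebraicGeometry TopologicalSpace Opposite
open scoped TensorProduct

namespace Groth.Agent.Lib.H70.KRRReg.NegPush

open Groth.Agent.Lib TensorMod.Basic ZarCoh.Exchange.Sections ZarCoh.Exchange.Complex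
open Groth.Agent.Lib.CechRes.Sec (rho secA toSec ofSec)
open Groth.Agent.Lib.ProjCoh.Coherent (tw twIso isInvertible_tw)

variable (n : ℕ) (R : Type u) [CommRing R] (d : ℤ)

local notation "pP" => (CohB1.ProjSpace n R) ↘ Spec (CommRingCat.of R)
local notation "U" => ProjCoh.Sections.cover n R
local notation "F" => tw n R d

/-- The complex extended by zero on the left. -/
abbrev AC : ℕ → Type u
  | 0 => PUnit.{u + 1}
  | q + 1 => CM R U F q

instance addCommGroupAC : ∀ q, AddCommGroup (AC n R d q)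
  | 0 => inferInstanceAs (AddCommGroup PUnit.{u + 1})
  | q + 1 => inferInstanceAs (AddCommGroup (CM R U F q))

instance moduleAC : ∀ q, Module R (AC n R d q)
  | 0 => inferInstanceAs (Module R PUnit.{u + 1})
  | q + 1 => inferInstanceAs (Module R (CM R U F q))

/-- The differentials. -/
def aD : ∀ q, AC n R d q →ₗ[R] AC n R d (q + 1)
  | 0 => 0
  | q + 1 => dA R U F q

/-- Negative twists of `M~` have no global sections. -/
theorem subsingleton_sections (hn : 0 < n) (hd : d < 0) (hd' : -(n : ℤ) ≤ d) (M : ModuleCat.{u} R) :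
    Subsingleton Γ(G (A := R) F M, (⊤ : (CohB1.ProjSpace n R).Opens)) := by
  haveI : (F).IsQuasicoherent := (ProjCoh.Coherent.isCoh_tw d).1
  haveI := PullbackVanish.flat_CM n R (isInvertible_tw (n := n) (R := R) d)
  haveI : ∀ q, Module.Flat R (AC n R d q)
    | 0 => inferInstanceAs (Module.Flat R PUnit.{u + 1})
    | q + 1 => inferInstanceAs (Module.Flat R (CM R U F q))
  have hF : ∀ p, Function.Exact (dA R U F p) (dA R U F (p + 1)) := fun p =>
    PullbackVanish.exact_dA n R F p (ProjKoszul.Chase.subsingleton_of_iso R (twIso d).symm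
      (ProjCoh.Twist.subsingleton_HH_of_neg_le n R hd' (Nat.succ_ne_zero p)))
  have h0 : Function.Exact (aD n R d 0) (aD n R d 1) := by
    intro c
    refine ⟨fun hc => ?_, ?_⟩
    · obtain ⟨s, hs⟩ := Cech.Sections.exists_aug_eq U (Coh.toAb F) ProjCoh.Sections.iSup_cover
        (c : Cech.Complex.Cochain U (Coh.toAb F).obj 0) ((dA_eq R U F 0 c).symm.trans hc)
      haveI : Subsingleton (Coh.HH (CohB1.ProjSpace n R) F 0) :=
        ProjKoszul.Chase.subsingleton_of_iso R (twIso d).symm
          (ProjCoh.Homog.subsingleton_HH_zero_of_neg hn hd)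
      haveI := (Curves.GlobalSections.h0Equiv (X := CohB1.ProjSpace n R) F).symm.toEquiv.subsingleton
      have hs0 : s = 0 := @Subsingleton.elim Γ(F, (⊤ : (CohB1.ProjSpace n R).Opens)) this _ _
      refine ⟨PUnit.unit, ?_⟩
      rw [← hs, hs0]
      exact (map_zero _).symm
    · rintro ⟨r, rfl⟩
      exact map_zero _
  have hex := Alg.exact_rTensor (aD n R d) (n + 1)
    (fun q => match q with
      | 0 => h0
      | q + 1 => hF q)
    (fun N q hq => match q, hq with
      | q + 1, hq => by
        haveI := PullbackVanish.isQCoh_G n R F N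
        exact (PullbackVanish.exact_iff n R F N q).2
          (ProjCoh.Twist.subsingleton_HH_of_lt _ (by omega))) M 0
  refine subsingleton_of_forall_eq 0 fun g => ?_
  let c : ∀ i : Fin (0 + 1) → ULift.{u} (Fin (n + 1)), (secA pP (Cech.Complex.inter U i)).obj (G F M) :=
    fun i => toSec pP (TensorMod.Dual.rs _ le_top g)
  obtain ⟨z, hz⟩ := (bijective_phi R U F M (fun i => ProjCoh.Twist.isAffineOpen_inter i) 0).2 c
  have hd0 : (dA R U F 0).rTensor M z = 0 := by
    refine (bijective_phi R U F M (fun i => ProjCoh.Twist.isAffineOpen_inter i) 1).1 ?_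
    refine ((phi_d R U F M 0 z).trans ?_).trans (map_zero (phi R U F M 1)).symm
    rw [hz]
    funext i
    rw [Cech.Complex.dC_apply]
    have e : ∀ j : Fin 2, Cech.Complex.res (Coh.toAb (G F M)).obj (Cech.Complex.inter_le_face U i j)
        (c (i ∘ j.succAbove)) = TensorMod.Dual.rs (G F M) le_top g := fun j =>
      TensorMod.Dual.rs_rs _ _ _ _
    refine (Finset.sum_congr rfl fun (j : Fin 2) _ => congrArg (((-1 : ℤ) ^ (j : ℕ)) • ·) (e j)).trans ?_
    refine (Finset.sum_smul (f := fun j : Fin 2 => (-1 : ℤ) ^ (j : ℕ))).symm.trans ?_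
    simp [Fin.sum_univ_two]
    rfl
  obtain ⟨y, hy⟩ := (hex z).1 hd0
  have hz0 : z = 0 := by
    rw [← hy]
    show (0 : AC n R d 0 →ₗ[R] AC n R d 1).rTensor M y = 0
    rw [LinearMap.rTensor_zero, LinearMap.zero_apply]
  refine Modules.TensorSec.section_ext _ _ _ fun x hx => ?_
  obtain ⟨j, hj⟩ := Opens.mem_iSup.1 (ProjCoh.Sections.iSup_cover.ge hx)
  let i : Fin (0 + 1) → ULift.{u} (Fin (n + 1)) := fun _ => j
  refine ⟨Cech.Complex.inter U i, le_top, (le_iInf fun _ => le_rfl : U j ≤ Cech.Complex.inter U i) hj, ?_⟩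
  have h1 := congrFun hz i
  rw [hz0, map_zero] at h1
  exact h1.symm.trans (map_zero _).symm

variable {n} {T : Scheme.{u}}

/-- A module whose chart restrictions have no global sections has zero direct image. -/
theorem isZero_push (M : (KRR.PY n T).Modules)
    (h : ∀ (V : T.Opens) (hV : IsAffineOpen V), Subsingleton Γ(Chart.rest (n := n) hV M, ⊤)) :
    IsZero ((Scheme.Modules.pushforward (KRR.pr n T)).obj M) := by
  rw [IsZero.iff_id_eq_zero]
  refine Modules.AffineHom.hom_ext_affine fun V s => ?_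
  suffices key : ∀ W : (KRR.PY n T).Opens, W = KRR.pr n T ⁻¹ᵁ V.1 → Subsingleton Γ(M, W) from
    @Subsingleton.elim Γ(M, KRR.pr n T ⁻¹ᵁ V.1) (key _ rfl) _ _
  rintro W rfl
  rw [← Chart.image_top (n := n) V.2]
  exact h V.1 V.2

/-- Negative twists of inverse images have zero direct image. -/
theorem isZero_push_tb_pullback (N : T.Modules) (hN : Coh.IsQCoh N) (d : ℤ) (hd : d < 0)
    (hd' : -(n : ℤ) ≤ d) :
    IsZero ((Scheme.Modules.pushforward (KRR.pr n T)).obj
      ((H73.RegSeq.tb d).obj ((Scheme.Modules.pullback (KRR.pr n T)).obj N))) := by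
  haveI := hN
  refine isZero_push _ fun V hV => ?_
  let N' : (Spec (CommRingCat.of Γ(T, V))).Modules := (Scheme.Modules.pullback hV.fromSpec).obj N
  haveI : N'.IsQuasicoherent := QCoh.Pullback.isQCoh_pullback _ N
  haveI hiso : IsIso N'.fromTildeΓ := inferInstance
  let M : ModuleCat.{u} Γ(T, V) := (moduleSpecΓFunctor (R := CommRingCat.of Γ(T, V))).obj N'
  let e : G (A := Γ(T, V)) (tw n Γ(T, V) d) M ≅
      Chart.rest (n := n) hV ((H73.RegSeq.tb d).obj ((Scheme.Modules.pullback (KRR.pr n T)).obj N)) :=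
    tensorIso ((Scheme.Modules.pullback (CohB1.ProjSpace n Γ(T, V) ↘
        Spec (CommRingCat.of Γ(T, V)))).mapIso (@asIso _ _ _ _ N'.fromTildeΓ hiso) ≪≫
      (Scheme.Modules.pullbackComp _ _).app N ≪≫
      (Scheme.Modules.pullbackCongr (Chart.emb_pr hV)).symm.app N ≪≫
      ((Scheme.Modules.pullbackComp _ _).app N).symm ≪≫
      ((Scheme.Modules.restrictFunctorIsoPullback (Chart.emb hV)).app _).symm) (Iso.refl _) ≪≫
    (Chart.tbIso hV d _).symm
  haveI := subsingleton_sections n Γ(T, V) d (by omega) hd hd' M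
  exact Function.Injective.subsingleton
    (ConcreteCategory.bijective_of_isIso (e.inv.app ⊤)).1

end Groth.Agent.Lib.H70.KRRReg.NegPush
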