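import Groth.Agent.Lib.H70.KRRReg.KoszulPush
import Groth.Agent.Lib.H70.KRRReg.NegPush
import Groth.Agent.Lib.H70.KRRReg.Resolution
import Groth.Agent.Lib.PicProjOver.Basic
import Groth.Agent.Lib.TensorMod.LocIso

/-!
# `K₀` of bundles on `P^n_T` is free over `K₀` of bundles on `T`
-/

set_option autoImplicit false
set_option linter.style.haveILetI false

noncomputable section

universe v u

open CategoryTheory CategoryTheory.Limits AlgebraicGeometry

namespace Groth.Agent.Lib.H70.KRRReg.KvbFree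

open Groth.Agent Groth.Agent.Lib Groth.Agent.Lib.TensorMod.Basic
open Groth.Agent.Lib.ExchangeFP29.KPush Groth.Agent.Lib.ExchangeFP29.KPush.Reg

theorem kvb_hom_ext {X : Scheme.{u}} {M : Type v} [AddCommGroup M] {a b : SGA6.Kvb X →+ M}
    (hab : ∀ F : X.Modules, FlatMod.IsFinLocFree F → a (KRR.cl X F) = b (KRR.cl X F)) : a = b := by
  classical
  refine QuotientAddGroup.addMonoidHom_ext _ (FreeAbelianGroup.lift_ext _ _ fun F => ?_)
  obtain ⟨F, hF⟩ := F
  have := hab F hF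
  have hF' : FlatMod.IsFinLocFree F := hF
  simp only [KRR.cl, KZero.clSub, KRR.vbP, hF', dite_true] at this
  exact this

theorem mapSub_cl {X Y : Scheme.{u}} (G : X.Modules ⥤ Y.Modules) [G.Additive] [PreservesFiniteLimits G]
    [PreservesFiniteColimits G]
    (h : ∀ M, FlatMod.IsFinLocFree M → FlatMod.IsFinLocFree (G.obj M)) {M : X.Modules}
    (hM : FlatMod.IsFinLocFree M) :
    SGA6.mapSub G (fun M : X.Modules => FlatMod.IsFinLocFree M) (fun M : Y.Modules => FlatMod.IsFinLocFree M) h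
      (KRR.cl X M) = KRR.cl Y (G.obj M) := by
  simp only [KRR.cl, KZero.clSub, KRR.vbP, hM, h M hM, dite_true]
  rfl

variable {n : ℕ} {T : Scheme.{u}}

/-- Twisting. -/
def τ (d : ℤ) : SGA6.Kvb (KRR.PY n T) →+ SGA6.Kvb (KRR.PY n T) :=
  SGA6.mapSub (H73.RegSeq.tb d) (KRR.vbP (KRR.PY n T)) (KRR.vbP (KRR.PY n T)) fun _ h => B_tw d h

theorem τ_cl (d : ℤ) {F : (KRR.PY n T).Modules} (hF : B F) :
    τ d (KRR.cl (KRR.PY n T) F) = KRR.cl (KRR.PY n T) (tw d F) :=
  mapSub_cl (H73.RegSeq.tb d) (fun _ h => B_tw d h) hF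

theorem τ_τ (a b c : ℤ) (h : a + b = c) (x : SGA6.Kvb (KRR.PY n T)) : τ b (τ a x) = τ c x := by
  refine DFunLike.congr_fun (kvb_hom_ext (a := (τ b).comp (τ a)) (b := τ c) fun F hF => ?_) x
  rw [AddMonoidHom.comp_apply, τ_cl a hF, τ_cl b (B_tw a hF), τ_cl c hF]
  exact KAugNil98.Main.cl_iso (Ext.twTw a b c h F) (B_tw _ (B_tw _ hF))

theorem τ_zero (x : SGA6.Kvb (KRR.PY n T)) : τ 0 x = x := by
  refine DFunLike.congr_fun (kvb_hom_ext (a := τ 0) (b := AddMonoidHom.id _) fun F hF => ?_) x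
  rw [τ_cl 0 hF]
  exact KAugNil98.Main.cl_iso (Ext.twZero F) (B_tw _ hF)

theorem B_pull {N : T.Modules} (hN : FlatMod.IsFinLocFree N) :
    B ((Scheme.Modules.pullback (KRR.pr n T)).obj N) :=
  TensorMod.LocFree.isFinLocFree_pullback _ hN

theorem RB_pull {N : T.Modules} (hN : FlatMod.IsFinLocFree N) :
    RB ((Scheme.Modules.pullback (KRR.pr n T)).obj N) := by
  haveI := TensorMod.FPConv.isFP_of_isFinLocFree hN
  have hq : Coh.IsQCoh N := inferInstance
  refine ⟨B_pull hN, (H73.RegSeq.reg_iff _).2 fun i hi => ?_⟩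
  rcases Nat.lt_or_ge n i with h | h
  · exact Kernel.isZero_Rp_of_lt (isQCoh_of_B (B_pull hN)) _ i h
  · exact PullbackVanish.isZero_Rp_tb_pullback N hq i hi _ (by omega)

theorem nonempty_push_pull {N : T.Modules} (hN : FlatMod.IsFinLocFree N) :
    Nonempty ((Scheme.Modules.pushforward (KRR.pr n T)).obj ((Scheme.Modules.pullback (KRR.pr n T)).obj N) ≅ N) := by
  haveI := TensorMod.LocIso.isIso_unit_of_isFinLocFree (KRR.pr n T)
    (fun U => (ConcreteCategory.isIso_iff_bijective _).2 (PicProjOver.push_toBase n T U)) hN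
  exact ⟨(asIso ((Scheme.Modules.pullbackPushforwardAdjunction (KRR.pr n T)).unit.app N)).symm⟩

/-- Twists of inverse images, from `-n` on, have no higher direct images. -/
theorem good_tw_pull {N : T.Modules} (hN : FlatMod.IsFinLocFree N) (d : ℤ) (hd : -(n : ℤ) ≤ d) :
    KoszulPush.Good (tw d ((Scheme.Modules.pullback (KRR.pr n T)).obj N)) := by
  haveI := TensorMod.FPConv.isFP_of_isFinLocFree hN
  have hq : Coh.IsQCoh N := inferInstance
  refine ⟨fun i hi => H73.RegSeq.isZero_congr i (Ext.twTw d 0 d (add_zero d) _).symm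
    (PullbackVanish.isZero_Rp_tb_pullback N hq i hi d hd), ?_⟩
  rcases Int.lt_or_le d 0 with h | h
  · exact KAugNil98.Main.isFinLocFree_isZero (NegPush.isZero_push_tb_pullback N hq d h hd)
  · lift d to ℕ using h
    exact Push.isFinLocFree_push (RB_tw (RB_pull hN) d)

variable [CompactSpace T] [(Scheme.Modules.pullback (KRR.pr n T)).Additive]
  [PreservesFiniteLimits (Scheme.Modules.pullback (KRR.pr n T))]
  [PreservesFiniteColimits (Scheme.Modules.pullback (KRR.pr n T))]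

/-- Inverse image. -/
def pull : SGA6.Kvb T →+ SGA6.Kvb (KRR.PY n T) :=
  SGA6.mapSub (Scheme.Modules.pullback (KRR.pr n T)) (fun M : T.Modules => FlatMod.IsFinLocFree M)
    (fun M : (KRR.PY n T).Modules => FlatMod.IsFinLocFree M) fun _ h => B_pull h

theorem pull_cl {N : T.Modules} (hN : FlatMod.IsFinLocFree N) :
    pull (n := n) (KRR.cl T N) = KRR.cl (KRR.PY n T) ((Scheme.Modules.pullback (KRR.pr n T)).obj N) :=
  mapSub_cl (Scheme.Modules.pullback (KRR.pr n T)) (fun _ h => B_pull h) hN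

omit [(Scheme.Modules.pullback (KRR.pr n T)).Additive]
  [PreservesFiniteLimits (Scheme.Modules.pullback (KRR.pr n T))]
  [PreservesFiniteColimits (Scheme.Modules.pullback (KRR.pr n T))] in
theorem exists_g0 : ∃ g : SGA6.Kvb (KRR.PY n T) →+ SGA6.Kvb T,
    ∀ F, RB F → g (KRR.cl (KRR.PY n T) F) =
      KRR.cl T ((Scheme.Modules.pushforward (KRR.pr n T)).obj F) :=
  Ext.exists_extend (Push.isAdd (n := n) (AddMonoidHom.id (SGA6.Kvb T)))

variable {g : SGA6.Kvb (KRR.PY n T) →+ SGA6.Kvb T}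
  (hg : ∀ F, RB F → g (KRR.cl (KRR.PY n T) F) =
    KRR.cl T ((Scheme.Modules.pushforward (KRR.pr n T)).obj F))

/-- The twisted kernel on classes. -/
def Φ (g : SGA6.Kvb (KRR.PY n T) →+ SGA6.Kvb T) :
    SGA6.Kvb (KRR.PY n T) →+ SGA6.Kvb (KRR.PY n T) :=
  (τ 1).comp (pull.comp g - AddMonoidHom.id _)

include hg

theorem rb_iter {F : (KRR.PY n T).Modules} (hF : RB F) : ∀ k, RB (Resolution.iter F k) ∧
    (Φ g)^[k] (KRR.cl (KRR.PY n T) F) = KRR.cl (KRR.PY n T) (Resolution.iter F k)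
  | 0 => ⟨hF, rfl⟩
  | k + 1 => by
    obtain ⟨hr, hk⟩ := rb_iter hF k
    let G := Resolution.iter F k
    have hq := isQCoh_of_B hr.1
    have hP : B (Kernel.seq G).X₂ := B_pull (Push.isFinLocFree_push hr)
    haveI := Counit.epi_counit hq hr.2
    have hK : B (Kernel.seq G).X₁ := KAugNil98.Main.isFinLocFree_kernel (Kernel.seq G).g hP hr.1
    refine ⟨⟨TensorMod.LocFree.of_iso (H73.RegSeq.twFIso 1 _).symm (B_tw 1 hK),
      Kernel.isRegSheaf_kernel hq hr.2⟩, ?_⟩
    rw [Function.iterate_succ_apply', hk, Φ, AddMonoidHom.comp_apply, AddMonoidHom.sub_apply,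
      AddMonoidHom.comp_apply, AddMonoidHom.id_apply, hg _ hr, pull_cl (Push.isFinLocFree_push hr)]
    have h := KAugNil98.Main.clSub_shortExact (Kernel.shortExact_seq hq hr.2) hK hP hr.1
    change τ 1 (KRR.cl (KRR.PY n T) (Kernel.seq G).X₂ - KRR.cl (KRR.PY n T) G) = _
    rw [h]
    change τ 1 (KRR.cl (KRR.PY n T) (Kernel.seq G).X₁ + KRR.cl (KRR.PY n T) G - KRR.cl (KRR.PY n T) G) = _
    rw [add_sub_cancel_right, τ_cl 1 hK]
    exact KAugNil98.Main.cl_iso (H73.RegSeq.twFIso 1 _).symm (B_tw 1 hK)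

theorem Φ_pow_eq_zero (x : SGA6.Kvb (KRR.PY n T)) : (Φ g)^[n + 1] x = 0 := by
  have : ∀ k, ∃ Ψ : SGA6.Kvb (KRR.PY n T) →+ SGA6.Kvb (KRR.PY n T), ∀ y, Ψ y = (Φ g)^[k] y := fun k => by
    induction k with
    | zero => exact ⟨AddMonoidHom.id _, fun y => rfl⟩
    | succ k ih =>
      obtain ⟨Ψ, hΨ⟩ := ih
      exact ⟨(Φ g).comp Ψ, fun y => by rw [AddMonoidHom.comp_apply, hΨ, Function.iterate_succ_apply']⟩
  obtain ⟨Ψ, e⟩ := this (n + 1)
  rw [← e]
  refine DFunLike.congr_fun (Ext.hom_ext (a := Ψ) (b := 0) fun F hF => ?_) x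
  rw [e, (rb_iter hg hF (n + 1)).2]
  exact KAugNil98.Main.cl_isZero (Resolution.isZero_iter (isQCoh_of_B hF.1) hF.2 (n + 1) (Nat.lt_succ_self n))

omit hg in
theorem expand (x : SGA6.Kvb (KRR.PY n T)) (k : ℕ) :
    x = ∑ i ∈ Finset.range k, (-1 : ℤ) ^ i • τ (-(i : ℤ)) (pull (g ((Φ g)^[i] x))) +
      (-1 : ℤ) ^ k • τ (-(k : ℤ)) ((Φ g)^[k] x) := by
  induction k with
  | zero => simp [τ_zero]
  | succ k ih =>
    conv_lhs => rw [ih]
    rw [Finset.sum_range_succ, add_assoc]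
    congr 1
    have h : τ (-((k + 1 : ℕ) : ℤ)) ((Φ g)^[k + 1] x) =
        τ (-(k : ℤ)) (pull (g ((Φ g)^[k] x))) - τ (-(k : ℤ)) ((Φ g)^[k] x) := by
      rw [Function.iterate_succ_apply', ← map_sub]
      exact τ_τ 1 _ _ (by push_cast; ring) _
    rw [h, pow_succ, mul_neg_one, neg_smul, smul_sub, neg_sub, add_sub_cancel]

/-- Values on twists of inverse images. -/
theorem g_tw_pull {N : T.Modules} (hN : FlatMod.IsFinLocFree N) (d : ℤ) (hd : -(n : ℤ) ≤ d) :
    g (KRR.cl (KRR.PY n T) (tw d ((Scheme.Modules.pullback (KRR.pr n T)).obj N))) =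
      KoszulPush.χ (tw d ((Scheme.Modules.pullback (KRR.pr n T)).obj N)) := by
  suffices key : ∀ (k : ℕ) (d : ℤ), -(n : ℤ) ≤ d → -(k : ℤ) ≤ d →
      g (KRR.cl (KRR.PY n T) (tw d ((Scheme.Modules.pullback (KRR.pr n T)).obj N))) =
        KoszulPush.χ (tw d ((Scheme.Modules.pullback (KRR.pr n T)).obj N)) from key (-d).toNat d hd (by omega)
  intro k
  induction k with
  | zero =>
    intro d _ h
    lift d to ℕ using (by omega : 0 ≤ d)
    exact hg _ (RB_tw (RB_pull hN) d)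
  | succ k ih =>
    intro d hd hdk
    let P := (Scheme.Modules.pullback (KRR.pr n T)).obj N
    let F := tw d P
    have hF : B F := B_tw d (B_pull hN)
    have hgood : ∀ j, j ≤ n + 1 → KoszulPush.Good (tw (j : ℤ) F) := fun j _ =>
      KoszulPush.good_congr (Ext.twTw d j _ rfl P).symm (good_tw_pull hN _ (by omega))
    have e1 := Ext.eq_sum_of_sum_eq_zero (f := fun j => KRR.cl (KRR.PY n T) (tw (j : ℤ) F)) (koszul_cl F hF)
    have e2 := Ext.eq_sum_of_sum_eq_zero (f := fun j => KoszulPush.χ (tw (j : ℤ) F))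
      (KoszulPush.koszul_sum F hgood)
    show g (KRR.cl (KRR.PY n T) F) = KoszulPush.χ F
    rw [KAugNil98.Main.cl_iso (Ext.twZero F).symm hF,
      ← KoszulPush.χ_iso (Ext.twZero F) (hgood 0 (by omega))]
    refine ((congrArg g e1).trans ?_).trans e2.symm
    rw [map_sum]
    refine Finset.sum_congr rfl fun j _ => ?_
    rw [map_zsmul, map_nsmul]
    congr 2
    let e := Ext.twTw d ((j + 1 : ℕ) : ℤ) _ rfl P
    rw [KAugNil98.Main.cl_iso e (B_tw _ hF), ih (d + ((j + 1 : ℕ) : ℤ)) (by omega) (by omega)]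
    exact (KoszulPush.χ_iso e (KoszulPush.good_congr e.symm (good_tw_pull hN _ (by omega)))).symm

theorem g_τ_pull_neg (d : ℤ) (hd : d < 0) (hd' : -(n : ℤ) ≤ d) (x : SGA6.Kvb T) :
    g (τ d (pull x)) = 0 := by
  refine DFunLike.congr_fun (kvb_hom_ext (a := g.comp ((τ d).comp pull)) (b := 0) fun N hN => ?_) x
  haveI := TensorMod.FPConv.isFP_of_isFinLocFree hN
  have hq : Coh.IsQCoh N := inferInstance
  rw [AddMonoidHom.comp_apply, AddMonoidHom.comp_apply, pull_cl hN, τ_cl d (B_pull hN),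
    g_tw_pull hg hN d hd']
  exact KAugNil98.Main.cl_isZero (NegPush.isZero_push_tb_pullback N hq d hd hd')

theorem g_pull (x : SGA6.Kvb T) : g (pull x) = x := by
  refine DFunLike.congr_fun (kvb_hom_ext (a := g.comp pull) (b := AddMonoidHom.id _) fun N hN => ?_) x
  rw [AddMonoidHom.comp_apply, pull_cl hN, hg _ (RB_pull hN)]
  obtain ⟨e⟩ := nonempty_push_pull (n := n) hN
  exact KAugNil98.Main.cl_iso e (Push.isFinLocFree_push (RB_pull hN))

omit hg in
/-- `(x_i) ↦ ∑ x_i O(i)` is bijective. -/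
theorem bijective_sum : Function.Bijective
    (fun x : Fin (n + 1) → SGA6.Kvb T => ∑ i : Fin (n + 1), τ ((i : ℕ) : ℤ) (pull (n := n) (x i))) := by
  obtain ⟨g, hg⟩ := exists_g0 (n := n) (T := T)
  constructor
  · intro a b hab
    let c := a - b
    have hc : ∑ i : Fin (n + 1), τ ((i : ℕ) : ℤ) (pull (n := n) (c i)) = 0 := by
      simp only [c, Pi.sub_apply, map_sub, Finset.sum_sub_distrib]
      exact sub_eq_zero.2 hab
    have key : ∀ k, ∀ i : Fin (n + 1), n < (i : ℕ) + k → c i = 0 := by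
      intro k
      induction k with
      | zero => intro i hi; exact absurd i.2 (by omega)
      | succ k ih =>
        intro i hi
        have h := congrArg (fun z => g (τ (-((i : ℕ) : ℤ)) z)) hc
        simp only [map_sum, map_zero] at h
        rw [Finset.sum_eq_single i] at h
        · rwa [τ_τ _ _ 0 (by omega), τ_zero, g_pull hg] at h
        · intro j _ hji
          rcases Nat.lt_or_ge (i : ℕ) (j : ℕ) with hlt | hge
          · rw [ih j (by omega), map_zero, map_zero, map_zero, map_zero]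
          · have : (j : ℕ) ≠ (i : ℕ) := fun h => hji (Fin.ext h)
            rw [τ_τ _ _ (((j : ℕ) : ℤ) - ((i : ℕ) : ℤ)) (by omega)]
            exact g_τ_pull_neg hg _ (by omega) (by omega) _
        · exact fun h => absurd (Finset.mem_univ i) h
    exact funext fun i => sub_eq_zero.1 (key (n + 1) i (by omega))
  · intro z
    let x := τ (-(n : ℤ)) z
    refine ⟨fun i => (-1 : ℤ) ^ (n - (i : ℕ)) • g ((Φ g)^[n - (i : ℕ)] x), ?_⟩
    have h := expand (g := g) x (n + 1)
    rw [Φ_pow_eq_zero hg, map_zero, smul_zero, add_zero] at h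
    have h2 : z = τ (n : ℤ) x := (((τ_τ _ _ _ (neg_add_cancel (n : ℤ)) z)).trans (τ_zero z)).symm
    rw [h, map_sum, ← Finset.sum_range_reflect, ← Fin.sum_univ_eq_sum_range] at h2
    refine Eq.trans ?_ h2.symm
    refine Finset.sum_congr rfl fun i _ => ?_
    rw [map_zsmul, map_zsmul, map_zsmul, τ_τ _ _ ((i : ℕ) : ℤ)]
    · congr 5 <;> omega
    · omega

end Groth.Agent.Lib.H70.KRRReg.KvbFree
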