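import Groth.Agent.Lib.H70.KRRReg.Local
import Groth.Agent.Lib.H70.KRRReg.Alg
import Groth.Agent.Lib.Exchange.Compare
import Groth.Agent.Lib.CechRes.Flat
import Groth.Agent.Lib.ProjCoh.Twist
import Groth.Agent.H34.UFDExt.Gen

/-!
# `R^i p_* (p^* N)(d) = 0` for `i ≥ 1` and `d ≥ -n`
-/

set_option autoImplicit false
set_option linter.style.haveILetI false

noncomputable section

universe u

open CategoryTheory CategoryTheory.Limits AlgebraicGeometry TopologicalSpace Opposite
open scoped TensorProduct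

namespace Groth.Agent.Lib.H70.KRRReg.PullbackVanish

open Groth.Agent.Lib TensorMod.Basic ZarCoh.Exchange.Sections
open Groth.Agent.Lib.ProjCoh.Coherent (tw twIso isInvertible_tw)

/-- An invertible module is flat over the base of a flat scheme. -/
theorem isFlatOver_of_isInvertible {X S : Scheme.{u}} (f : X ⟶ S) [Flat f] {M : X.Modules}
    (hM : PicF.IsInvertible M) : FlatMod.IsFlatOver f M := by
  intro x
  obtain ⟨U, e, hx, he⟩ := TensorMod.Gen.isInvertible_iff.1 hM x
  have hbij := H34.UFDExt.Gen.IsGen.stalk_bijective (M := M) (fun W h => he W h) hx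
  show letI := FlatMod.moduleStalkOver f M x; Module.Flat _ _
  letI := FlatMod.moduleStalkOver f M x
  letI : Algebra (S.presheaf.stalk (f.base x)) (X.presheaf.stalk x) := (f.stalkMap x).hom.toAlgebra
  haveI : IsScalarTower (S.presheaf.stalk (f.base x)) (X.presheaf.stalk x) (M.presheaf.stalk x) :=
    IsScalarTower.of_algebraMap_smul fun _ _ => rfl
  haveI : Module.Flat (S.presheaf.stalk (f.base x)) (X.presheaf.stalk x) := Flat.stalkMap f x
  exact Module.Flat.of_linearEquiv ((LinearEquiv.ofBijective (LinearMap.toSpanSingleton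
    (X.presheaf.stalk x) (M.presheaf.stalk x) (M.presheaf.germ U x hx e)) hbij).restrictScalars
      (S.presheaf.stalk (f.base x))).symm

section Chart

variable (n : ℕ) (R : Type u) [CommRing R]

local notation "pP" => (CohB1.ProjSpace n R) ↘ Spec (CommRingCat.of R)

theorem isQCoh_G (F : (CohB1.ProjSpace n R).Modules) [F.IsQuasicoherent] (M : ModuleCat.{u} R) :
    (G (A := R) F M).IsQuasicoherent := by
  haveI : ((tilde.functor (CommRingCat.of R)).obj M).IsQuasicoherent := by
    dsimp [tilde.functor]; infer_instance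
  haveI := QCoh.Pullback.isQCoh_pullback pP ((tilde.functor (CommRingCat.of R)).obj M)
  exact TensorMod.TensorQCoh.isQCoh_tensorMod
    ((Scheme.Modules.pullback pP).obj ((tilde.functor (CommRingCat.of R)).obj M)) _

/-- Exactness of the tensored Cech complex is vanishing of cohomology. -/
theorem exact_iff (F : (CohB1.ProjSpace n R).Modules) [F.IsQuasicoherent] (M : ModuleCat.{u} R) (q : ℕ) :
    Function.Exact ((ZarCoh.Exchange.Complex.dA R (ProjCoh.Sections.cover n R) F q).rTensor M)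
        ((ZarCoh.Exchange.Complex.dA R (ProjCoh.Sections.cover n R) F (q + 1)).rTensor M) ↔
      Subsingleton (Coh.HH (CohB1.ProjSpace n R) (G (A := R) F M) (q + 1)) := by
  obtain ⟨iso⟩ := ZarCoh.Exchange.Compare.nonempty_natIso R (ProjCoh.Sections.cover n R) F
    (fun i => ProjCoh.Twist.isAffineOpen_inter i) ProjCoh.Sections.iSup_cover (q + 1)
  let K := ZarCoh.Exchange.Compare.K R (ProjCoh.Sections.cover n R) F M
  have e : CohIII.T (ZarCoh.Exchange.Complex.C R (ProjCoh.Sections.cover n R) F) ((q + 1 : ℕ) : ℤ) M ≃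
      Coh.HH (CohB1.ProjSpace n R) (G (A := R) F M) (q + 1) :=
    (iso.app M).addCommGroupIsoToAddEquiv.toEquiv
  rw [← e.subsingleton_congr]
  have hpd := ZarCoh.Exchange.Compare.prev_succ q
  have hnd := ZarCoh.Exchange.Compare.next_eq (q + 1)
  constructor
  · intro h
    refine subsingleton_of_forall_eq 0 fun x => ?_
    obtain ⟨z, rfl⟩ := ZarCoh.Exchange.Compare.toT_surjective R _ _ M (q + 1) x
    refine (FlatCx.Elem.cls_eq_zero_iff (K := K) hpd hnd z).2 ?_
    obtain ⟨y, hy⟩ := (h z.1).1 ((ZarCoh.Exchange.Compare.K_d R _ _ M (q + 1) z.1).symm.trans z.2)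
    exact ⟨y, (ZarCoh.Exchange.Compare.K_d R _ _ M q y).trans hy⟩
  · intro h z
    refine ⟨fun hz => ?_, ?_⟩
    · let z' : ZarCoh.Exchange.Compare.Z R (ProjCoh.Sections.cover n R) F M (q + 1) :=
        ⟨z, (ZarCoh.Exchange.Compare.K_d R _ _ M (q + 1) z).trans hz⟩
      obtain ⟨y, hy⟩ := (FlatCx.Elem.cls_eq_zero_iff (K := K) hpd hnd z').1 (h.elim _ _)
      exact ⟨y, (ZarCoh.Exchange.Compare.K_d R _ _ M q y).symm.trans hy⟩
    · rintro ⟨y, rfl⟩
      rw [← LinearMap.rTensor_comp_apply, ZarCoh.Exchange.Complex.dA_dA, LinearMap.rTensor_zero,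
        LinearMap.zero_apply]

/-- Cochains of an invertible module are flat over the base. -/
theorem flat_CM {F : (CohB1.ProjSpace n R).Modules} (hF : PicF.IsInvertible F) [F.IsQuasicoherent]
    (p : ℕ) : Module.Flat R (ZarCoh.Exchange.Complex.CM R (ProjCoh.Sections.cover n R) F p) := by
  haveI : Smooth (CohB1.ProjSpace.toSpec n R) := ProjSpace.Basic.smooth_toSpec n R
  haveI : Flat pP := inferInstanceAs (Flat (CohB1.ProjSpace.toSpec n R))
  haveI : ∀ j : Fin (p + 1) → ULift.{u} (Fin (n + 1)), Module.Flat R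
      ((CechRes.Sec.secA pP (Cech.Complex.inter (ProjCoh.Sections.cover n R) j)).obj F) := fun j =>
    CechRes.Flat.secFlat_of_isFlatOver pP F (isFlatOver_of_isInvertible pP hF)
      _ (ProjCoh.Twist.isAffineOpen_inter j)
  classical
  exact Module.Flat.of_linearEquiv (DFinsupp.linearEquivFunOnFintype (R := R)
    (M := fun j : Fin (p + 1) → ULift.{u} (Fin (n + 1)) =>
      ((CechRes.Sec.secA pP (Cech.Complex.inter (ProjCoh.Sections.cover n R) j)).obj F : Type u))).symm

/-- The complex is exact where cohomology vanishes. -/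
theorem exact_dA (F : (CohB1.ProjSpace n R).Modules) [F.IsQuasicoherent] (p : ℕ)
    (h : Subsingleton (Coh.HH (CohB1.ProjSpace n R) F (p + 1))) :
    Function.Exact (ZarCoh.Exchange.Complex.dA R (ProjCoh.Sections.cover n R) F p)
      (ZarCoh.Exchange.Complex.dA R (ProjCoh.Sections.cover n R) F (p + 1)) := by
  have h1 : Subsingleton (Coh.HH (CohB1.ProjSpace n R) (G (A := R) F (ModuleCat.of R R)) (p + 1)) :=
    ProjKoszul.Chase.subsingleton_of_iso R
      (tensorIso ((Scheme.Modules.pullback pP).mapIso (tildeSelf (R := CommRingCat.of R)) ≪≫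
        PicLoc.pullbackStructureIso pP) (Iso.refl F) ≪≫ leftUnit F).symm h
  have h2 := (exact_iff n R F (ModuleCat.of R R) p).2 h1
  refine (Function.Exact.iff_of_ladder_linearEquiv (e₁ := TensorProduct.rid R _)
    (e₂ := TensorProduct.rid R _) (e₃ := TensorProduct.rid R _) ?_ ?_).2 h2 <;>
    exact TensorProduct.ext' fun x r => by simp

/-- `H^q(P^n_R, M~(d)) = 0` for `q ≥ 1` and `d ≥ -n`. -/
theorem subsingleton_G {d : ℤ} (hd : -(n : ℤ) ≤ d) (M : ModuleCat.{u} R) (q : ℕ) :
    Subsingleton (Coh.HH (CohB1.ProjSpace n R) (G (A := R) (tw n R d) M) (q + 1)) := by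
  haveI : (tw n R d).IsQuasicoherent := (ProjCoh.Coherent.isCoh_tw d).1
  haveI := flat_CM n R (isInvertible_tw (n := n) (R := R) d)
  refine (exact_iff n R _ M q).1 (Alg.exact_rTensor _ n (fun p => ?_) (fun N p hp => ?_) M q)
  · exact exact_dA n R _ p (ProjKoszul.Chase.subsingleton_of_iso R (twIso d).symm
      (ProjCoh.Twist.subsingleton_HH_of_neg_le n R hd (Nat.succ_ne_zero p)))
  · haveI := isQCoh_G n R (tw n R d) N
    exact (exact_iff n R _ N p).2 (ProjCoh.Twist.subsingleton_HH_of_lt _ (Nat.lt_succ_of_le hp))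

end Chart

variable {n : ℕ} {T : Scheme.{u}}

/-- `R^i p_* (p^* N)(d) = 0` for `i ≥ 1` and `d ≥ -n`. -/
theorem isZero_Rp_tb_pullback (N : T.Modules) (hN : Coh.IsQCoh N) (i : ℕ) (hi : 1 ≤ i) (d : ℤ)
    (hd : -(n : ℤ) ≤ d) :
    IsZero (H73.RegSeq.Rp i ((H73.RegSeq.tb d).obj ((Scheme.Modules.pullback (KRR.pr n T)).obj N))) := by
  obtain ⟨q, rfl⟩ : ∃ q, i = q + 1 := ⟨i - 1, by omega⟩
  haveI := hN
  refine (Local.isZero_Rp_tb_iff _ (QCoh.Pullback.isQCoh_pullback _ N) d _ hi).2 fun V hV => ?_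
  let N' : (Spec (CommRingCat.of Γ(T, V))).Modules := (Scheme.Modules.pullback hV.fromSpec).obj N
  haveI : N'.IsQuasicoherent := QCoh.Pullback.isQCoh_pullback _ N
  haveI hiso : IsIso N'.fromTildeΓ := inferInstance
  let M : ModuleCat.{u} Γ(T, V) := (moduleSpecΓFunctor (R := CommRingCat.of Γ(T, V))).obj N'
  let e : G (A := Γ(T, V)) (tw n Γ(T, V) d) M ≅
      CohB1.tensorMod (Chart.rest (n := n) hV ((Scheme.Modules.pullback (KRR.pr n T)).obj N))
        (tw n Γ(T, V) d) :=
    tensorIso ((Scheme.Modules.pullback (CohB1.ProjSpace n Γ(T, V) ↘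
        Spec (CommRingCat.of Γ(T, V)))).mapIso (@asIso _ _ _ _ N'.fromTildeΓ hiso) ≪≫
      (Scheme.Modules.pullbackComp _ _).app N ≪≫
      (Scheme.Modules.pullbackCongr (Chart.emb_pr hV)).symm.app N ≪≫
      ((Scheme.Modules.pullbackComp _ _).app N).symm ≪≫
      ((Scheme.Modules.restrictFunctorIsoPullback (Chart.emb hV)).app _).symm) (Iso.refl _)
  exact ProjKoszul.Chase.subsingleton_of_iso Γ(T, V) e (subsingleton_G n Γ(T, V) hd M q)

end Groth.Agent.Lib.H70.KRRReg.PullbackVanish
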