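import Groth.Agent.Lib.H70.KRRReg.PullbackVanish
import Groth.Agent.Lib.ProjCoh.GlobalFun
import Groth.Agent.Lib.Cech.Sections
import Groth.Agent.Lib.ProjKoszul.Surj

/-!
# Global sections of `M~` pulled back to `P^n_R`
-/

set_option autoImplicit false
set_option linter.style.haveILetI false

noncomputable section

universe u

open CategoryTheory CategoryTheory.Limits AlgebraicGeometry TopologicalSpace Opposite
open scoped TensorProduct

namespace Groth.Agent.Lib.H70.KRRReg.UnitSurj

open Groth.Agent.Lib TensorMod.Basic ZarCoh.Exchange.Sections ZarCoh.Exchange.Complex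
open Groth.Agent.Lib.CechRes.Sec (rho secA toSec ofSec)
open Groth.Agent.Lib.Modules.TensorSec

variable (n : ℕ) (R : Type u) [CommRing R]

local notation "pP" => (CohB1.ProjSpace n R) ↘ Spec (CommRingCat.of R)
local notation "O" => Coh.structureModule (CohB1.ProjSpace n R)
local notation "U" => ProjCoh.Sections.cover n R

theorem rho_top_bijective : Function.Bijective (rho pP (⊤ : (CohB1.ProjSpace n R).Opens)) := by
  haveI := ProjCoh.GlobalFun.isIso_appTop n R
  have h : rho pP (⊤ : (CohB1.ProjSpace n R).Opens) =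
      ((Scheme.ΓSpecIso (CommRingCat.of R)).inv ≫ (CohB1.ProjSpace.toSpec n R).appTop).hom := by
    rw [rho, Scheme.Hom.appLE]
    simp
    rfl
  rw [h]
  exact ConcreteCategory.bijective_of_isIso _

/-- The augmented complex. -/
abbrev AC : ℕ → Type u
  | 0 => R
  | q + 1 => CM R U O q

instance addCommGroupAC : ∀ q, AddCommGroup (AC n R q)
  | 0 => inferInstanceAs (AddCommGroup R)
  | q + 1 => inferInstanceAs (AddCommGroup (CM R U O q))

instance moduleAC : ∀ q, Module R (AC n R q)
  | 0 => inferInstanceAs (Module R R)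
  | q + 1 => inferInstanceAs (Module R (CM R U O q))

/-- The unit cochain. -/
def oneC : CM R U O 0 := fun i => toSec pP (TensorMod.Gen.one _ (Cech.Complex.inter U i))

/-- The differentials. -/
def aD : ∀ q, AC n R q →ₗ[R] AC n R (q + 1)
  | 0 => LinearMap.toSpanSingleton R (CM R U O 0) (oneC n R)
  | q + 1 => dA R U O q

/-- Every global section of the pullback of `M~` comes from `M`. -/
theorem pbSec_surjective (M : ModuleCat.{u} R) :
    Function.Surjective (pbSec (X := CohB1.ProjSpace n R) M ⊤) := by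
  intro g
  haveI : (O).IsQuasicoherent := TensorMod.QCohInv.isQCoh_structureModule _
  haveI := PullbackVanish.flat_CM n R
    (F := O) (TensorMod.Gen.isInvertible_iff.2 fun _ => ⟨⊤, TensorMod.Gen.one _ ⊤, trivial, Ample.GenLocus.isGen_one _⟩)
  haveI : ∀ q, Module.Flat R (AC n R q)
    | 0 => inferInstanceAs (Module.Flat R R)
    | q + 1 => inferInstanceAs (Module.Flat R (CM R U O q))
  have hO : ∀ p, Function.Exact (dA R U O p) (dA R U O (p + 1)) := fun p =>
    PullbackVanish.exact_dA n R O p (ProjCoh.Twist.subsingleton_HH_structureModule n R (Nat.succ_ne_zero p))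
  have h0 : Function.Exact (aD n R 0) (aD n R 1) := by
    intro c
    refine ⟨fun hc => ?_, ?_⟩
    · obtain ⟨s, hs⟩ := Cech.Sections.exists_aug_eq U (Coh.toAb O) ProjCoh.Sections.iSup_cover
        (c : Cech.Complex.Cochain U (Coh.toAb O).obj 0) ((dA_eq R U O 0 c).symm.trans hc)
      obtain ⟨r, hr⟩ := (rho_top_bijective n R).2 s
      refine ⟨r, ?_⟩
      rw [← hs]
      funext i
      show rho pP (Cech.Complex.inter U i) r * 1 = _
      rw [mul_one, ← CechRes.Sec.rho_res pP (le_top : Cech.Complex.inter U i ≤ ⊤) r, hr]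
      rfl
    · rintro ⟨r, rfl⟩
      show dA R U O 0 (r • oneC n R) = 0
      rw [map_smul]
      refine Eq.trans (congrArg (r • ·) ?_) (smul_zero r)
      rw [dA_eq]
      funext i
      rw [Cech.Complex.dC_apply]
      have e : ∀ j : Fin 2, Cech.Complex.res (Coh.toAb O).obj (Cech.Complex.inter_le_face U i j)
          (oneC n R (i ∘ j.succAbove)) = TensorMod.Gen.one _ (Cech.Complex.inter U i) := fun j =>
        map_one ((CohB1.ProjSpace n R).presheaf.map
          (homOfLE (Cech.Complex.inter_le_face U i j)).op).hom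
      refine (Finset.sum_congr rfl fun (j : Fin 2) _ => congrArg (((-1 : ℤ) ^ (j : ℕ)) • ·) (e j)).trans ?_
      refine (Finset.sum_smul (f := fun j : Fin 2 => (-1 : ℤ) ^ (j : ℕ))).symm.trans ?_
      simp [Fin.sum_univ_two]
      rfl
  have hex := Alg.exact_rTensor (aD n R) (n + 1)
    (fun q => match q with
      | 0 => h0
      | q + 1 => hO q)
    (fun N q hq => match q, hq with
      | q + 1, hq => by
        haveI := PullbackVanish.isQCoh_G n R O N
        exact (PullbackVanish.exact_iff n R O N q).2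
          (ProjCoh.Twist.subsingleton_HH_of_lt _ (by omega))) M 0
  let g' : Γ(G (A := R) O M, (⊤ : (CohB1.ProjSpace n R).Opens)) := (rightUnit _).inv.app ⊤ g
  let c : ∀ i : Fin (0 + 1) → ULift.{u} (Fin (n + 1)), (secA pP (Cech.Complex.inter U i)).obj (G O M) :=
    fun i => toSec pP (TensorMod.Dual.rs _ le_top g')
  obtain ⟨z, hz⟩ := (bijective_phi R U O M (fun i => ProjCoh.Twist.isAffineOpen_inter i) 0).2 c
  have hd : (dA R U O 0).rTensor M z = 0 := by
    refine (bijective_phi R U O M (fun i => ProjCoh.Twist.isAffineOpen_inter i) 1).1 ?_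
    refine ((phi_d R U O M 0 z).trans ?_).trans (map_zero (phi R U O M 1)).symm
    rw [hz]
    funext i
    rw [Cech.Complex.dC_apply]
    have e : ∀ j : Fin 2, Cech.Complex.res (Coh.toAb (G O M)).obj (Cech.Complex.inter_le_face U i j)
        (c (i ∘ j.succAbove)) = TensorMod.Dual.rs (G O M) le_top g' := fun j =>
      TensorMod.Dual.rs_rs _ _ _ _
    refine (Finset.sum_congr rfl fun (j : Fin 2) _ => congrArg (((-1 : ℤ) ^ (j : ℕ)) • ·) (e j)).trans ?_
    refine (Finset.sum_smul (f := fun j : Fin 2 => (-1 : ℤ) ^ (j : ℕ))).symm.trans ?_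
    simp [Fin.sum_univ_two]
    rfl
  obtain ⟨y, rfl⟩ := (hex z).1 hd
  let m := TensorProduct.lid R M y
  have hy : y = (1 : R) ⊗ₜ m := ((TensorProduct.lid R M).eq_symm_apply.2 rfl)
  have key : tens (pbSec M ⊤ m) (TensorMod.Gen.one _ ⊤) = g' := by
    refine section_ext _ _ _ fun x hx => ?_
    obtain ⟨j, hj⟩ := Opens.mem_iSup.1 (ProjCoh.Sections.iSup_cover.ge hx)
    let i : Fin (0 + 1) → ULift.{u} (Fin (n + 1)) := fun _ => j
    refine ⟨Cech.Complex.inter U i, le_top, (le_iInf fun _ => le_rfl : U j ≤ Cech.Complex.inter U i) hj, ?_⟩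
    have h1 := congrFun hz i
    rw [hy] at h1
    change tens (pbSec M _ m) (ofSec pP ((LinearMap.toSpanSingleton R (CM R U O 0) (oneC n R) 1) i)) =
      TensorMod.Dual.rs _ le_top g' at h1
    refine ((rs_tens _ _ _).trans ?_).trans h1
    rw [rs_pbSec, LinearMap.toSpanSingleton_apply, one_smul]
    exact congrArg (tens _) (map_one ((CohB1.ProjSpace n R).presheaf.map (homOfLE le_top).op).hom)
  refine ⟨m, ?_⟩
  have : (rightUnit _).hom.app ⊤ g' = g :=
    congrArg (fun φ => Scheme.Modules.Hom.app φ ⊤ g) (rightUnit _).inv_hom_id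
  rw [← this, ← key, ← ProjKoszul.Surj.rightUnit_inv_app]
  exact (congrArg (fun φ => Scheme.Modules.Hom.app φ ⊤ (pbSec M ⊤ m)) (rightUnit _).inv_hom_id).symm

end Groth.Agent.Lib.H70.KRRReg.UnitSurj
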